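import Cfsg.Agent.RegOrbit.Extension
import Mathlib.FieldTheory.Finiteness
import Mathlib.LinearAlgebra.Dimension.Finite
import Mathlib.Tactic

/-!
# Counting pairs fixed by a nontrivial element
-/

set_option autoImplicit false
set_option linter.style.haveILetI false

namespace CfsgLib.RegOrbit

open scoped commutatorElement

universe v

variable {V : Type v} [AddCommGroup V] [Finite V]

/-- The fixed points of an automorphism. -/
def fixSub (a : AutGp V) : AddSubgroup V where
  carrier := {z | (a : AddMonoid.End V) z = z}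
  zero_mem' := map_zero _
  add_mem' := fun {x y} (hx : _ = x) (hy : _ = y) => show _ = _ by rw [map_add, hx, hy]
  neg_mem' := fun {x} (hx : _ = x) => show _ = _ by rw [map_neg, hx]

theorem mem_fixSub {a : AutGp V} {z : V} : z ∈ fixSub a ↔ (a : AddMonoid.End V) z = z := Iff.rfl

omit [Finite V] in
theorem commutator_apply' (a b : AutGp V) (z : V) :
    (a : AddMonoid.End V) ((b : AddMonoid.End V) z) =
      (⁅a, b⁆ : AutGp V).val ((b : AddMonoid.End V) ((a : AddMonoid.End V) z)) := by
  rw [← mul_apply', ← mul_apply', ← mul_apply']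
  congr 2
  rw [commutatorElement_def]; group

/-- A group of odd order has a base of two vectors as soon as the squares of the fixed point
numbers sum to less than twice the square of the module. -/
theorem base_of_sum_lt {A : Subgroup (AutGp V)} (hodd : Odd (Nat.card A))
    [Fintype {a : A // a ≠ 1}]
    (h : ∑ a : {a : A // a ≠ 1}, Nat.card (fixSub ((a : A) : AutGp V)) ^ 2 < 2 * Nat.card V ^ 2) :
    Base A := by
  by_contra hB
  have hbad : ∀ p : V × V, ∃ a : {a : A // a ≠ 1},
      p.1 ∈ fixSub ((a : A) : AutGp V) ∧ p.2 ∈ fixSub ((a : A) : AutGp V) := by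
    intro p
    by_contra hne
    exact hB ⟨p.1, p.2, fun a ha h1 h2 => by
      by_contra ha1
      exact hne ⟨⟨⟨a, ha⟩, fun h => ha1 (congrArg Subtype.val h)⟩, h1, h2⟩⟩
  choose f hf1 hf2 using hbad
  have hinv : ∀ a : {a : A // a ≠ 1}, (a : A)⁻¹ ≠ 1 := fun a h => a.2 (inv_eq_one.1 h)
  have hne : ∀ a : {a : A // a ≠ 1}, (a : A)⁻¹ ≠ (a : A) := by
    intro a h
    obtain ⟨k, hk⟩ := exists_pow_two_mul_add_one hodd (a : A).2
    have h2 : ((a : A) : AutGp V) ^ 2 = 1 := by
      rw [sq, ← Subgroup.coe_mul]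
      nth_rw 1 [← h]
      rw [inv_mul_cancel]; rfl
    rw [pow_succ, pow_mul, h2, one_pow, one_mul] at hk
    exact a.2 (Subtype.ext hk)
  let g : (V × V) × Bool → {a : A // a ≠ 1} := fun q =>
    bif q.2 then f q.1 else ⟨_, hinv (f q.1)⟩
  have hg : ∀ q, q.1.1 ∈ fixSub ((g q : A) : AutGp V) ∧ q.1.2 ∈ fixSub ((g q : A) : AutGp V) := by
    rintro ⟨p, _ | _⟩
    · exact ⟨inv_fix (hf1 p), inv_fix (hf2 p)⟩
    · exact ⟨hf1 p, hf2 p⟩
  let F : (V × V) × Bool → Σ a : {a : A // a ≠ 1},
      (fixSub ((a : A) : AutGp V) × fixSub ((a : A) : AutGp V)) := fun q =>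
    ⟨g q, ⟨q.1.1, (hg q).1⟩, ⟨q.1.2, (hg q).2⟩⟩
  let π : (Σ a : {a : A // a ≠ 1},
      (fixSub ((a : A) : AutGp V) × fixSub ((a : A) : AutGp V))) → A × (V × V) := fun s =>
    ((s.1 : A), ((s.2.1 : V), (s.2.2 : V)))
  have hF : Function.Injective F := by
    rintro ⟨p, b⟩ ⟨p', b'⟩ h
    have h1 : ((g (p, b) : A), p) = ((g (p', b') : A), p') := congrArg π h
    obtain ⟨h2, h3⟩ := Prod.ext_iff.1 h1
    simp only at h3
    subst h3
    rcases b <;> rcases b'
    · rfl
    · exact absurd h2 (hne (f p))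
    · exact absurd h2.symm (hne (f p))
    · rfl
  have hle := Nat.card_le_card_of_injective F hF
  rw [Nat.card_sigma, Nat.card_prod, Nat.card_prod, Nat.card_eq_fintype_card (α := Bool),
    Fintype.card_bool] at hle
  simp only [Nat.card_prod, ← sq] at hle
  omega

omit [Finite V] in
/-- An eigenvector equation for a product of subgroups of fixed points. -/
theorem fixSub_inter {a y : AutGp V} {u : AutGp V} (hy : ⁅a, u⁆ = y) {x z : V}
    (hx : x ∈ fixSub a) (hz : z ∈ fixSub a) (h : x = (u : AddMonoid.End V) z) : x ∈ fixSub y := by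
  subst hy
  have h1 := commutator_apply' a u z
  rw [hz, ← h, hx] at h1
  exact h1.symm

variable {F : Type*} [Field F] [Module F V]

/-- An element of symplectic type fixes few vectors. -/
theorem natCard_fixSub_cube {a b : AutGp V} {c : F} (hc : c ≠ 1) (hc2 : c ^ 2 ≠ 1) (hc0 : c ≠ 0)
    (ha : ∀ (t : F) z, (a : AddMonoid.End V) (t • z) = t • (a : AddMonoid.End V) z)
    (hb : ∀ (t : F) z, (b : AddMonoid.End V) (t • z) = t • (b : AddMonoid.End V) z)
    (hab : ∀ z, (⁅a, b⁆ : AutGp V).val z = c • z) :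
    Nat.card (fixSub a) ^ 3 ≤ Nat.card V := by
  have hswap : ∀ z, (a : AddMonoid.End V) ((b : AddMonoid.End V) z) =
      c • (b : AddMonoid.End V) ((a : AddMonoid.End V) z) := fun z => by
    rw [commutator_apply', hab]
  let f : fixSub a × fixSub a × fixSub a →+ V :=
    AddMonoidHom.mk' (fun p => (p.1 : V) + (b : AddMonoid.End V) p.2.1 +
      (b : AddMonoid.End V) ((b : AddMonoid.End V) p.2.2)) fun p q => by
        simp only [Prod.fst_add, Prod.snd_add, AddSubgroup.coe_add, map_add]; abel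
  have hinj : Function.Injective f := by
    rw [injective_iff_map_eq_zero]
    rintro ⟨⟨x, hx⟩, ⟨y, hy⟩, ⟨z, hz⟩⟩ h
    set y' := (b : AddMonoid.End V) y
    set z' := (b : AddMonoid.End V) ((b : AddMonoid.End V) z)
    have h0 : x + y' + z' = 0 := h
    have hy' : (a : AddMonoid.End V) y' = c • y' := by rw [hswap, hy]
    have hz' : (a : AddMonoid.End V) z' = c ^ 2 • z' := by
      rw [hswap, hswap, hz, hb, smul_smul, sq]
    have h1 : (c - 1) • y' + (c ^ 2 - 1) • z' = 0 := by
      have h2 := congrArg (a : AddMonoid.End V) h0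
      rw [map_add, map_add, map_zero, hx, hy', hz'] at h2
      calc (c - 1) • y' + (c ^ 2 - 1) • z' = (x + c • y' + c ^ 2 • z') - (x + y' + z') := by
            rw [sub_smul, sub_smul, one_smul, one_smul]; abel
        _ = 0 := by rw [h2, h0, sub_zero]
    have hz0 : z' = 0 := by
      have h2 := congrArg (a : AddMonoid.End V) h1
      rw [map_add, map_zero, ha, ha, hy', hz'] at h2
      have h3 : ((c ^ 2 - 1) * (c ^ 2 - c)) • z' = 0 := by
        linear_combination (norm := module) h2 - c • h1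
      rcases smul_eq_zero.1 h3 with h4 | h4
      · exfalso
        rcases mul_eq_zero.1 h4 with h5 | h5
        · exact hc2 (sub_eq_zero.1 h5)
        · rw [sq, ← mul_sub_one, mul_eq_zero] at h5
          exact h5.elim hc0 fun h6 => hc (sub_eq_zero.1 h6)
      · exact h4
    rw [hz0, smul_zero, add_zero, smul_eq_zero] at h1
    have hy0 : y' = 0 := h1.resolve_left fun h2 => hc (sub_eq_zero.1 h2)
    rw [hz0, hy0, add_zero, add_zero] at h0
    have hbinj : ∀ {w : V}, (b : AddMonoid.End V) w = 0 → w = 0 := fun {w} hw => by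
      rw [← inv_apply' b w, hw, map_zero]
    exact Prod.ext (Subtype.ext h0) (Prod.ext (Subtype.ext (hbinj hy0))
      (Subtype.ext (hbinj (hbinj hz0))))
  have := Nat.card_le_card_of_injective f hinj
  rw [Nat.card_prod, Nat.card_prod] at this
  calc Nat.card (fixSub a) ^ 3 = _ := by ring
    _ ≤ _ := this

/-- Two fixed point spaces moved by an element. -/
theorem natCard_fixSub_sq_le (a u : AutGp V) :
    Nat.card (fixSub a) ^ 2 ≤ Nat.card V * Nat.card (fixSub ⁅a, u⁆) := by
  let f : fixSub a × fixSub a →+ V :=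
    AddMonoidHom.mk' (fun p => (p.1 : V) - (u : AddMonoid.End V) p.2) fun p q => by
      simp only [Prod.fst_add, Prod.snd_add, AddSubgroup.coe_add, map_add]; abel
  have h1 : Nat.card f.ker ≤ Nat.card (fixSub ⁅a, u⁆) := by
    refine Nat.card_le_card_of_injective (fun p => ⟨(p.1.1 : V), fixSub_inter rfl p.1.1.2 p.1.2.2
      (sub_eq_zero.1 (AddMonoidHom.mem_ker.1 p.2))⟩) fun p q hpq => ?_
    have h1 : (p.1.1 : V) = q.1.1 := Subtype.mk.inj hpq
    have h2 : (u : AddMonoid.End V) (p.1.2 : V) = (u : AddMonoid.End V) (q.1.2 : V) := by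
      rw [← sub_eq_zero.1 (AddMonoidHom.mem_ker.1 p.2), ← sub_eq_zero.1 (AddMonoidHom.mem_ker.1 q.2),
        h1]
    refine Subtype.ext (Prod.ext (Subtype.ext h1) (Subtype.ext ?_))
    rw [← inv_apply' u (p.1.2 : V), h2, inv_apply']
  have h2 : Nat.card f.range ≤ Nat.card V := Nat.card_le_card_of_injective _ Subtype.val_injective
  calc Nat.card (fixSub a) ^ 2 = Nat.card (fixSub a × fixSub a) := by rw [Nat.card_prod, sq]
    _ = Nat.card f.range * Nat.card f.ker := by
      rw [AddSubgroup.card_eq_card_quotient_mul_card_addSubgroup f.ker,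
        Nat.card_congr (QuotientAddGroup.quotientKerEquivRange f).toEquiv]
    _ ≤ _ := Nat.mul_le_mul h2 h1

/-- Hypotheses of the count: a tower `Z ≤ E`, `C ≤ A` acting semilinearly over `F`. -/
structure CountData (A : Subgroup (AutGp V)) (C E Z : Subgroup (AutGp V)) (g : F) : Prop where
  odd : Odd (Nat.card A)
  hC : C ≤ A
  hE : E ≤ C
  hZ : Z ≤ E
  scalar : ∀ z ∈ Z, ∃ t : F, ∀ v : V, (z : AddMonoid.End V) v = t • v
  linear : ∀ a ∈ C, ∀ (t : F) v, (a : AddMonoid.End V) (t • v) = t • (a : AddMonoid.End V) v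
  semi : ∀ a ∈ A, ∃ t : F, ∀ v, (a : AddMonoid.End V) (g • v) = t • (a : AddMonoid.End V) v
  mem : ∀ a ∈ A, (∀ v, (a : AddMonoid.End V) (g • v) = g • (a : AddMonoid.End V) v) → a ∈ C
  inE : ∀ a ∈ E, a ∉ Z → ∃ b ∈ E, ⁅a, b⁆ ∈ Z ∧ ⁅a, b⁆ ≠ 1
  offE : ∀ a ∈ C, a ∉ E → ∃ u ∈ E, ⁅a, u⁆ ∈ E ∧ ⁅a, u⁆ ∉ Z

variable {A C E Z : Subgroup (AutGp V)} {g : F}

theorem CountData.scalar_fix (h : CountData A C E Z g) {z : AutGp V} (hz : z ∈ Z) (hz1 : z ≠ 1)
    {v : V} (hv : v ∈ fixSub z) : v = 0 := by
  obtain ⟨t, ht⟩ := h.scalar z hz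
  rw [mem_fixSub, ht] at hv
  have h1 : (t - 1) • v = 0 := by rw [sub_smul, one_smul, hv, sub_self]
  rcases smul_eq_zero.1 h1 with h2 | h2
  · exact absurd (eq_one_of_forall fun w => by rw [ht, sub_eq_zero.1 h2, one_smul]) hz1
  · exact h2

theorem CountData.fix_inE (h : CountData A C E Z g) {a : AutGp V} (haE : a ∈ E) (haZ : a ∉ Z) :
    Nat.card (fixSub a) ^ 3 ≤ Nat.card V := by
  obtain ⟨b, hb, hab, hne⟩ := h.inE a haE haZ
  obtain ⟨t, ht⟩ := h.scalar _ hab
  have ht1 : t ≠ 1 := fun h1 => hne (eq_one_of_forall fun w => by rw [ht, h1, one_smul])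
  by_cases hV : ∃ w : V, w ≠ 0
  swap
  · push_neg at hV
    haveI : Subsingleton V := ⟨fun x y => by rw [hV x, hV y]⟩
    haveI : Subsingleton (fixSub a) := inferInstance
    simp [Nat.card_of_subsingleton (0 : V), Nat.card_of_subsingleton (0 : fixSub a)]
  obtain ⟨w, hw⟩ := hV
  have ht0 : t ≠ 0 := fun h0 => hw (by
    have := inv_apply' (⁅a, b⁆ : AutGp V) w
    rw [ht, h0, zero_smul, map_zero] at this
    exact this.symm)
  refine natCard_fixSub_cube ht1 (fun h2 => ?_) ht0 (h.linear a (h.hE haE)) (h.linear b (h.hE hb)) ht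
  obtain ⟨k, hk⟩ := exists_pow_two_mul_add_one h.odd (h.hC (h.hE (h.hZ hab)))
  have hsq : (⁅a, b⁆ : AutGp V) ^ 2 = 1 := eq_one_of_forall fun v => by
    rw [sq, mul_apply', ht, ht, smul_smul, ← sq, h2, one_smul]
  rw [pow_succ, pow_mul, hsq, one_pow, one_mul] at hk
  exact hne hk

theorem CountData.fix_offC (h : CountData A C E Z g) {a : AutGp V} (ha : a ∈ A) (haC : a ∉ C) :
    Nat.card (fixSub a) ^ 2 ≤ Nat.card V := by
  obtain ⟨t, ht⟩ := h.semi a ha
  have htg : t ≠ g := fun h1 => haC (h.mem a ha fun v => by rw [ht, h1])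
  let f : fixSub a × fixSub a →+ V :=
    AddMonoidHom.mk' (fun p => (p.1 : V) + g • (p.2 : V)) fun p q => by
      simp only [Prod.fst_add, Prod.snd_add, AddSubgroup.coe_add, smul_add]; abel
  have hinj : Function.Injective f := by
    rw [injective_iff_map_eq_zero]
    rintro ⟨⟨x, hx⟩, ⟨y, hy⟩⟩ hxy
    have h0 : x + g • y = 0 := hxy
    have h1 := congrArg (a : AddMonoid.End V) h0
    rw [map_add, map_zero, hx, ht, hy] at h1
    have h2 : (t - g) • y = 0 := by
      calc (t - g) • y = (x + t • y) - (x + g • y) := by rw [sub_smul]; abel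
        _ = 0 := by rw [h0, h1, sub_zero]
    have hy0 : y = 0 := (smul_eq_zero.1 h2).resolve_left (sub_ne_zero.2 htg)
    subst hy0
    rw [smul_zero, add_zero] at h0
    exact Prod.ext (Subtype.ext h0) rfl
  have := Nat.card_le_card_of_injective f hinj
  rwa [Nat.card_prod, ← sq] at this

variable [Finite F]

/-- The exponent of the field in the module. -/
theorem exists_natCard_eq_pow : Nat.card V = Nat.card F ^ Module.finrank F V :=
  Module.natCard_eq_pow_finrank

theorem natCard_fixSub_le {a : AutGp V}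
    (ha : ∀ (t : F) z, (a : AddMonoid.End V) (t • z) = t • (a : AddMonoid.End V) z) {m : ℕ}
    (h : Nat.card (fixSub a) ^ 3 ≤ Nat.card F ^ m) :
    Nat.card (fixSub a) ≤ Nat.card F ^ (m / 3) := by
  let L : Submodule F V :=
    { fixSub a with smul_mem' := fun t z (hz : _ = z) => show _ = _ by rw [ha, hz] }
  have hL : Nat.card (fixSub a) = Nat.card F ^ Module.finrank F L :=
    (Module.natCard_eq_pow_finrank (K := F) (V := L))
  rw [hL, ← pow_mul] at h
  rw [hL]
  have h1 : Module.finrank F L * 3 ≤ m := (Nat.pow_le_pow_iff_right Finite.one_lt_card).1 h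
  exact Nat.pow_le_pow_right Nat.card_pos (by omega)

/-- The main count. -/
theorem CountData.base (h : CountData A C E Z g) {n : ℕ} (hn : n = Module.finrank F V)
    (hnum : (C ≤ E ∧ Nat.card A < 2 * Nat.card F ^ n) ∨
      Nat.card A * Nat.card F ^ n + Z.relIndex C * Nat.card F ^ (n + n / 3)
        < 2 * Nat.card F ^ (2 * n)) : Base A := by
  classical
  haveI : Fintype {a : A // a ≠ 1} := Fintype.ofFinite _
  refine base_of_sum_lt h.odd ?_
  set q := Nat.card F
  have hV : Nat.card V = q ^ n := by rw [hn]; exact exists_natCard_eq_pow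
  have hq : 0 < q := Nat.card_pos
  -- an element fixing more than half lies in `C` outside `E`
  let big : {a : A // a ≠ 1} → Prop := fun a => q ^ n < Nat.card (fixSub ((a : A) : AutGp V)) ^ 2
  have hbig : ∀ a, big a → ((a : A) : AutGp V) ∈ C ∧ ((a : A) : AutGp V) ∉ E := by
    intro a ha
    have hC : ((a : A) : AutGp V) ∈ C := by
      by_contra hne
      exact absurd ((h.fix_offC (a : A).2 hne).trans hV.le) (not_le_of_gt ha)
    refine ⟨hC, fun haE => ?_⟩
    by_cases haZ : ((a : A) : AutGp V) ∈ Z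
    · have h1 : Nat.card (fixSub ((a : A) : AutGp V)) = 1 := by
        rw [AddSubgroup.card_eq_one, AddSubgroup.eq_bot_iff_forall]
        exact fun v hv => h.scalar_fix haZ (fun h1 => a.2 (Subtype.ext h1)) hv
      exact absurd (show q ^ n < 1 by simpa [big, h1] using ha) (not_lt_of_ge (Nat.one_le_pow _ _ hq))
    · have h1 := h.fix_inE haE haZ
      rw [hV] at h1
      refine absurd ?_ (not_le_of_gt ha)
      exact le_trans (Nat.pow_le_pow_right Nat.card_pos (by norm_num)) h1
  have hM : ∀ a, big a → Nat.card (fixSub ((a : A) : AutGp V)) ^ 2 ≤ q ^ (n + n / 3) := by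
    intro a ha
    obtain ⟨hC, hnE⟩ := hbig a ha
    obtain ⟨u, hu, hyE, hyZ⟩ := h.offE _ hC hnE
    have h1 := h.fix_inE hyE hyZ
    rw [hV] at h1
    have h2 := natCard_fixSub_le (h.linear _ (h.hE hyE)) h1
    refine (natCard_fixSub_sq_le _ u).trans ?_
    rw [hV, pow_add]
    exact Nat.mul_le_mul_left _ h2
  -- at most one in each coset of `Z`
  have hcount : (Finset.univ.filter big).card ≤ Z.relIndex C := by
    let κ : {a // big a} → C ⧸ Z.subgroupOf C := fun a =>
      QuotientGroup.mk (⟨_, (hbig a.1 a.2).1⟩ : C)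
    have hinj : Function.Injective κ := by
      rintro ⟨a, ha⟩ ⟨b, hb⟩ hab
      have hz : ((a : A) : AutGp V)⁻¹ * ((b : A) : AutGp V) ∈ Z :=
        Subgroup.mem_subgroupOf.1 (QuotientGroup.eq.1 hab)
      by_contra hne
      have hz1 : ((a : A) : AutGp V)⁻¹ * ((b : A) : AutGp V) ≠ 1 := fun h1 =>
        hne (Subtype.ext (Subtype.ext (Subtype.ext (inv_mul_eq_one.1 h1))))
      let f : fixSub ((a : A) : AutGp V) × fixSub ((b : A) : AutGp V) →+ V :=
        AddMonoidHom.mk' (fun p => (p.1 : V) + (p.2 : V)) fun p r => by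
          simp only [Prod.fst_add, Prod.snd_add, AddSubgroup.coe_add]; abel
      have hf : Function.Injective f := by
        rw [injective_iff_map_eq_zero]
        rintro ⟨x, y⟩ hxy
        have hx : (x : V) = -(y : V) := eq_neg_of_add_eq_zero_left hxy
        have hxb : (x : V) ∈ fixSub ((b : A) : AutGp V) := hx ▸ neg_mem y.2
        have hx0 : (x : V) = 0 := h.scalar_fix hz hz1 (by
          rw [mem_fixSub, mul_apply', mem_fixSub.1 hxb]
          exact inv_fix x.2)
        refine Prod.ext (Subtype.ext hx0) (Subtype.ext ?_)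
        show (y : V) = 0
        rwa [hx0, eq_comm, neg_eq_zero] at hx
      have h1 := Nat.card_le_card_of_injective f hf
      rw [Nat.card_prod, hV] at h1
      have h2 := Nat.mul_lt_mul'' ha hb
      have h3 : (q ^ n) * (q ^ n) < (q ^ n) ^ 2 := h2.trans_le (by
        rw [← mul_pow]; exact Nat.pow_le_pow_left h1 2)
      rw [sq] at h3
      exact lt_irrefl _ h3
    rw [← Fintype.card_subtype, ← Nat.card_eq_fintype_card]
    exact Nat.card_le_card_of_injective κ hinj
  have hcard : Fintype.card {a : A // a ≠ 1} ≤ Nat.card A := by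
    rw [← Nat.card_eq_fintype_card]
    exact Nat.card_le_card_of_injective _ Subtype.val_injective
  rw [hV, ← pow_mul, mul_comm n 2]
  rcases hnum with ⟨hCE, hlt⟩ | hlt
  · refine lt_of_le_of_lt (Finset.sum_le_sum (g := fun _ => q ^ n) fun a _ => ?_) ?_
    · exact le_of_not_gt fun ha => (hbig a ha).2 (hCE (hbig a ha).1)
    · rw [Finset.sum_const, Finset.card_univ, smul_eq_mul, two_mul n, pow_add, ← mul_assoc]
      exact Nat.mul_lt_mul_of_pos_right (hcard.trans_lt hlt) (pow_pos hq n)
  · refine lt_of_le_of_lt ?_ hlt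
    rw [← Finset.sum_filter_add_sum_filter_not Finset.univ big, add_comm]
    refine Nat.add_le_add ?_ ?_
    · refine (Finset.sum_le_card_nsmul _ _ (q ^ n) fun a ha => le_of_not_gt
        (Finset.mem_filter.1 ha).2).trans ?_
      exact Nat.mul_le_mul_right _ ((Finset.card_filter_le _ _).trans hcard)
    · refine (Finset.sum_le_card_nsmul _ _ (q ^ (n + n / 3)) fun a ha => hM a
        (Finset.mem_filter.1 ha).2).trans ?_
      exact Nat.mul_le_mul_right _ hcount

end CfsgLib.RegOrbit
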