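import Mathlib.Algebra.IsPrimePow
import Mathlib.Tactic

/-!
# Numerical inequalities for the count
-/

set_option autoImplicit false

namespace CfsgLib.RegOrbit

theorem count_ineq {q n j I D : ℕ} (hq : 2 ≤ q) (hI : I < q ^ j) (hj : j + 2 ≤ n)
    (hj' : j + n / 3 ≤ n) (hD : D ≤ (q - 1) ^ 2 * I) :
    D * q ^ n + I * q ^ (n + n / 3) < 2 * q ^ (2 * n) := by
  have hp : 0 < q ^ n := pow_pos (by omega) n
  have h1 : D * q ^ n ≤ q ^ (2 * n) := by
    calc D * q ^ n ≤ q ^ 2 * q ^ j * q ^ n := Nat.mul_le_mul_right _ (hD.trans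
          (Nat.mul_le_mul (Nat.pow_le_pow_left (by omega) 2) hI.le))
      _ = q ^ (2 + j + n) := by rw [pow_add, pow_add]
      _ ≤ q ^ (2 * n) := Nat.pow_le_pow_right (by omega) (by omega)
  have h2 : I * q ^ (n + n / 3) < q ^ (2 * n) := by
    calc I * q ^ (n + n / 3) < q ^ j * q ^ (n + n / 3) :=
          Nat.mul_lt_mul_of_pos_right hI (pow_pos (by omega) _)
      _ = q ^ (j + (n + n / 3)) := (pow_add _ _ _).symm
      _ ≤ q ^ (2 * n) := Nat.pow_le_pow_right (by omega) (by omega)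
  omega

/-- Sufficient exponent bound for large `e`. -/
theorem pow_six_lt {e q : ℕ} (he : 21 ≤ e) (hq : 4 ≤ q) : e ^ 6 < q ^ (e - e / 3) := by
  refine lt_of_lt_of_le ?_ (Nat.pow_le_pow_left hq _)
  induction e using Nat.strong_induction_on with
  | _ e ih =>
    by_cases h : e < 24
    · interval_cases e <;> norm_num
    · obtain ⟨d, rfl⟩ : ∃ d, e = d + 3 := ⟨e - 3, by omega⟩
      have h1 := ih d (by omega) (by omega)
      have h2 : d + 3 - (d + 3) / 3 = (d - d / 3) + 2 := by omega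
      rw [h2, pow_add]
      have h3 : 7 * (d + 3) ≤ 8 * d := by omega
      have h4 : (7 * (d + 3)) ^ 6 ≤ (8 * d) ^ 6 := Nat.pow_le_pow_left h3 6
      rw [mul_pow, mul_pow] at h4
      norm_num at h4 ⊢
      omega

theorem small_facts {q : ℕ} (hq : IsPrimePow q) :
    q ≠ 6 ∧ q ≠ 12 ∧ q ≠ 14 := by
  refine ⟨?_, ?_, ?_⟩ <;> rintro rfl <;>
    · obtain ⟨p, k, hp, hk, h⟩ := hq
      have hp' : Nat.Prime p := Nat.prime_iff.2 hp
      have h2 : p = 2 := ((Nat.prime_dvd_prime_iff_eq Nat.prime_two hp').1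
        (Nat.prime_two.dvd_of_dvd_pow (n := k) (by rw [h]; norm_num))).symm
      subst h2
      rcases lt_or_ge k 5 with hk' | hk'
      · interval_cases k <;> norm_num at h
      · have := Nat.pow_le_pow_right (n := 2) (by norm_num) hk'
        omega

/-- The numerical conclusion. -/
theorem num_main {e q n X I D : ℕ} (hq : IsPrimePow q) (he : 5 ≤ e) (heodd : Odd e) (hen : e ≤ n)
    (hr : ∀ r, r.Prime → r ∣ e → r ∣ q - 1) (hI : I ≤ e ^ 2 * X) (hD : D ≤ (q - 1) ^ 2 * I)
    (hX : X ≤ (e ^ 2) ^ 2) (h5 : e = 5 → X ≤ 15) (h7 : e = 7 → X ≤ 63) (h9 : e = 9 → X ≤ 39) :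
    D * q ^ n + I * q ^ (n + n / 3) < 2 * q ^ (2 * n) := by
  obtain ⟨hq6, hq12, hq14⟩ := small_facts hq
  have hq2 : 2 ≤ q := hq.two_le
  have key : ∀ j, e ^ 2 * X < q ^ j → j + 2 ≤ e → j + e / 3 ≤ e →
      D * q ^ n + I * q ^ (n + n / 3) < 2 * q ^ (2 * n) := fun j hj h1 h2 =>
    count_ineq hq2 (hI.trans_lt hj) (by omega) (by omega) hD
  have hX6 : e ^ 2 * X ≤ e ^ 6 := by
    calc e ^ 2 * X ≤ e ^ 2 * (e ^ 2) ^ 2 := Nat.mul_le_mul_left _ hX
      _ = e ^ 6 := by ring
  have big : ∀ Q j, Q ≤ q → e ^ 6 < Q ^ j → e ^ 2 * X < q ^ j := fun Q j hQ h =>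
    lt_of_le_of_lt hX6 (h.trans_le (Nat.pow_le_pow_left hQ j))
  have hrle : ∀ r, r.Prime → r ∣ e → r + 1 ≤ q := fun r h1 h2 => by
    have := Nat.le_of_dvd (by omega) (hr r h1 h2); omega
  obtain ⟨k, rfl⟩ := heodd
  by_cases hbig : 21 ≤ 2 * k + 1
  · obtain ⟨r, hr1, hr2⟩ := Nat.exists_prime_and_dvd (show 2 * k + 1 ≠ 1 by omega)
    have hr3 : 3 ≤ r := by
      rcases eq_or_ne r 2 with rfl | h
      · omega
      · have := hr1.two_le; omega
    have hq4 : 4 ≤ q := by have := hrle r hr1 hr2; omega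
    exact key _ (lt_of_le_of_lt hX6 (pow_six_lt hbig hq4)) (by omega) (by omega)
  have hk1 : 2 ≤ k := by omega
  have hk2 : k ≤ 9 := by omega
  interval_cases k
  · have h1 := hrle 5 Nat.prime_five (by norm_num)
    have h2 : 11 ≤ q := by
      by_contra h
      have h3 := hr 5 Nat.prime_five (by norm_num)
      interval_cases q <;> omega
    refine key 3 (lt_of_lt_of_le ?_ (Nat.pow_le_pow_left h2 3)) (by norm_num) (by norm_num)
    have := h5 (by norm_num); omega
  · have h1 := hrle 7 (by norm_num) (by norm_num)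
    refine key 5 (lt_of_lt_of_le ?_ (Nat.pow_le_pow_left h1 5)) (by norm_num) (by norm_num)
    have := h7 (by norm_num); omega
  · have h1 := hrle 3 Nat.prime_three (by norm_num)
    refine key 6 (lt_of_lt_of_le ?_ (Nat.pow_le_pow_left h1 6)) (by norm_num) (by norm_num)
    have := h9 (by norm_num); omega
  · have h1 := hrle 11 (by norm_num) (by norm_num)
    have h3 := hr 11 (by norm_num) (by norm_num)
    have h2 : 23 ≤ q := by
      by_contra h
      interval_cases q <;> omega
    exact key 8 (big 23 8 h2 (by norm_num)) (by norm_num) (by norm_num)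
  · have h1 := hrle 13 (by norm_num) (by norm_num)
    have h3 := hr 13 (by norm_num) (by norm_num)
    have h2 : 27 ≤ q := by
      by_contra h
      interval_cases q <;> omega
    exact key 9 (big 27 9 h2 (by norm_num)) (by norm_num) (by norm_num)
  · have h3 := hr 5 Nat.prime_five (by norm_num)
    have h1 := hrle 5 Nat.prime_five (by norm_num)
    have h2 : 11 ≤ q := by
      by_contra h
      interval_cases q <;> omega
    exact key 10 (big 11 10 h2 (by norm_num)) (by norm_num) (by norm_num)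
  · exact key 12 (big 18 12 (hrle 17 (by norm_num) (by norm_num)) (by norm_num))
      (by norm_num) (by norm_num)
  · exact key 13 (big 20 13 (hrle 19 (by norm_num) (by norm_num)) (by norm_num))
      (by norm_num) (by norm_num)

end CfsgLib.RegOrbit
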