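import Mathlib.GroupTheory.PGroup
import Mathlib.GroupTheory.Sylow
import Mathlib.GroupTheory.Solvable
import Mathlib.GroupTheory.SpecificGroups.Cyclic
import Mathlib.LinearAlgebra.Matrix.GeneralLinearGroup.Card
import Mathlib.LinearAlgebra.Matrix.ToLin
import Mathlib.Algebra.Module.ZMod
import Mathlib.Tactic

/-!
# Groups acting faithfully and linearly on a small elementary abelian group
-/

set_option autoImplicit false
set_option linter.style.haveILetI false

namespace CfsgLib.RegOrbit

open Subgroup

/-- A group with `r ^ d` elements is generated by `d` of them. -/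
theorem exists_generators {N : Type*} [Group N] [Finite N] {r d : ℕ} (hr : r.Prime)
    (hN : Nat.card N = r ^ d) :
    ∃ f : Fin d → N, Subgroup.closure (Set.range f) = ⊤ := by
  haveI := Fact.mk hr
  -- grow a chain of subgroups one generator at a time
  have key : ∀ i ≤ d, ∃ f : Fin i → N, r ^ i ≤ Nat.card (Subgroup.closure (Set.range f)) ∨
      Subgroup.closure (Set.range f) = ⊤ := by
    intro i hi
    induction i with
    | zero => exact ⟨Fin.elim0, Or.inl (by simpa using Nat.card_pos)⟩
    | succ i ih =>
      obtain ⟨f, hf⟩ := ih (by omega)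
      set K := Subgroup.closure (Set.range f) with hK
      by_cases htop : K = ⊤
      · refine ⟨Fin.cons 1 f, Or.inr (top_le_iff.1 (htop.ge.trans ?_))⟩
        refine Subgroup.closure_mono ?_
        rintro _ ⟨j, rfl⟩
        exact ⟨j.succ, by simp⟩
      obtain ⟨x, -, hx⟩ := SetLike.exists_of_lt (lt_top_iff_ne_top.2 htop)
      refine ⟨Fin.cons x f, Or.inl ?_⟩
      set L := Subgroup.closure (Set.range (Fin.cons x f : Fin (i + 1) → N)) with hL
      have hKL : K < L := by
        refine lt_of_le_of_ne ?_ fun he => hx (he.symm ▸ Subgroup.subset_closure ⟨0, by simp⟩)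
        refine Subgroup.closure_mono ?_
        rintro _ ⟨j, rfl⟩
        exact ⟨j.succ, by simp⟩
      obtain ⟨a, -, ha⟩ := (Nat.dvd_prime_pow hr).1 (hN ▸ Subgroup.card_subgroup_dvd_card K)
      obtain ⟨b, -, hb⟩ := (Nat.dvd_prime_pow hr).1 (hN ▸ Subgroup.card_subgroup_dvd_card L)
      have hlt : Nat.card K < Nat.card L := by
        by_contra hle
        exact hKL.ne (Subgroup.eq_of_le_of_card_ge hKL.le (not_lt.1 hle))
      rw [ha, hb, Nat.pow_lt_pow_iff_right hr.one_lt] at hlt
      rcases hf with hf | hf
      · rw [ha, Nat.pow_le_pow_iff_right hr.one_lt] at hf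
        rw [hb]
        exact Nat.pow_le_pow_right hr.pos (by omega)
      · exact absurd hf htop
  obtain ⟨f, hf⟩ := key d le_rfl
  refine ⟨f, ?_⟩
  rcases hf with hf | hf
  · exact Subgroup.eq_top_of_le_card _ (hN ▸ hf)
  · exact hf

/-- Endomorphisms are determined by their values on generators. -/
theorem natCard_le_pow_of_faithful {H N : Type*} [Group H] [Group N] [Finite N] {r d : ℕ}
    (hr : r.Prime) (hN : Nat.card N = r ^ d) (φ : H →* MulAut N) (hφ : Function.Injective φ) :
    Nat.card H ≤ Nat.card N ^ d := by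
  obtain ⟨f, hf⟩ := exists_generators hr hN
  have hinj : Function.Injective fun h : H => fun i => φ h (f i) := by
    intro a b hab
    refine hφ (MulEquiv.toMonoidHom_injective (MonoidHom.eq_of_eqOn_dense hf ?_))
    rintro _ ⟨i, rfl⟩
    exact congrFun hab i
  refine (Nat.card_le_card_of_injective _ hinj).trans (le_of_eq ?_)
  rw [Nat.card_fun, Nat.card_fin]

theorem natCard_dvd_GL_module {H V : Type*} [Group H] {r d : ℕ} [Fact r.Prime] [AddCommGroup V]
    [Module (ZMod r) V] [Finite V] (hV : Nat.card V = r ^ d) (ψ' : H →* AddMonoid.End V)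
    (hψ' : Function.Injective ψ') :
    Nat.card H ∣ ∏ i : Fin d, (r ^ d - r ^ (i : ℕ)) := by
  classical
  let ψ : H →* Module.End (ZMod r) V :=
    { toFun := fun h => AddMonoidHom.toZModLinearMap r (ψ' h)
      map_one' := LinearMap.ext fun x => by simp; rfl
      map_mul' := fun a c => LinearMap.ext fun x => by simp; rfl }
  have hψ : Function.Injective ψ := fun a c hac =>
    hψ' (AddMonoidHom.ext fun x => LinearMap.congr_fun hac x)
  haveI : Module.Finite (ZMod r) V := Module.Finite.of_finite
  have hrank : Module.finrank (ZMod r) V = d := by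
    have h := Module.natCard_eq_pow_finrank (K := ZMod r) (V := V)
    rw [Nat.card_zmod, hV] at h
    exact (Nat.pow_right_injective (Fact.out : r.Prime).two_le h).symm
  let b : Module.Basis (Fin d) (ZMod r) V := Module.finBasisOfFinrankEq _ _ hrank
  let χ₀ : H →* Matrix (Fin d) (Fin d) (ZMod r) :=
    { toFun := fun h => LinearMap.toMatrixAlgEquiv b (ψ h)
      map_one' := by rw [map_one, map_one]
      map_mul' := fun a c => by rw [map_mul, map_mul] }
  have hχ : Function.Injective χ₀.toHomUnits := by
    intro a c hac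
    exact hψ ((LinearMap.toMatrixAlgEquiv b).injective (congrArg Units.val hac))
  have h := Subgroup.card_dvd_of_injective χ₀.toHomUnits hχ
  rwa [Matrix.card_GL_field, ZMod.card] at h

/-- A faithful linear group in characteristic `r` of dimension `d` has order dividing
`|GL(d, r)|`. -/
theorem natCard_dvd_GL {H N : Type*} [Group H] [CommGroup N] [Finite N] {r d : ℕ} [Fact r.Prime]
    (hexp : ∀ x : N, x ^ r = 1) (hN : Nat.card N = r ^ d) (φ : H →* MulAut N)
    (hφ : Function.Injective φ) :
    Nat.card H ∣ ∏ i : Fin d, (r ^ d - r ^ (i : ℕ)) := by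
  letI : Module (ZMod r) (Additive N) :=
    AddCommGroup.zmodModule (G := Additive N) fun x => hexp (Additive.toMul x)
  let ψ : H →* AddMonoid.End (Additive N) :=
    { toFun := fun h => (MonoidHom.toAdditive (φ h).toMonoidHom : Additive N →+ Additive N)
      map_one' := AddMonoidHom.ext fun x => by simp; rfl
      map_mul' := fun a c => AddMonoidHom.ext fun x => by simp; rfl }
  refine natCard_dvd_GL_module (V := Additive N) hN ψ fun a c hac => hφ (MulEquiv.ext fun x => ?_)
  exact congrArg Additive.toMul (DFunLike.congr_fun hac (Additive.ofMul x))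

/-- A normal `r`-subgroup of a group acting on an `r`-group without proper invariant subgroups
acts trivially. -/
theorem acts_trivially_of_normal_pGroup {H N : Type*} [Group H] [Group N] [Finite N] {r : ℕ}
    [Fact r.Prime] (φ : H →* MulAut N) (hN : IsPGroup r N) (hne : Nontrivial N)
    (hirr : ∀ L : Subgroup N, (∀ h : H, ∀ x ∈ L, φ h x ∈ L) → L = ⊥ ∨ L = ⊤)
    (R : Subgroup H) [R.Normal] [Finite H] (hR : IsPGroup r R) : ∀ h ∈ R, φ h = 1 := by
  let L : Subgroup N :=
    { carrier := {x | ∀ h ∈ R, φ h x = x}
      one_mem' := fun h _ => map_one _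
      mul_mem' := fun {a b} ha hb h hh => by rw [map_mul, ha h hh, hb h hh]
      inv_mem' := fun {a} ha h hh => by rw [map_inv, ha h hh] }
  have hinv : ∀ g : H, ∀ x ∈ L, φ g x ∈ L := by
    intro g x hx h hh
    have h1 := hx (g⁻¹ * h * g) (by simpa using (inferInstance : R.Normal).conj_mem h hh g⁻¹)
    calc φ h (φ g x) = φ g (φ (g⁻¹ * h * g) x) := by
          simp only [map_mul, map_inv, MulAut.mul_apply, MulAut.apply_inv_self]
      _ = φ g x := by rw [h1]
  rcases hirr L hinv with hL | hL
  · exfalso
    letI : MulAction R N := MulAction.compHom N (φ.comp R.subtype)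
    have h1 : (1 : N) ∈ MulAction.fixedPoints R N := fun m => map_one (φ m)
    have hd : r ∣ Nat.card N := by
      obtain ⟨k, hk⟩ := IsPGroup.iff_card.1 hN
      have hk0 : k ≠ 0 := by
        rintro rfl
        exact (Finite.one_lt_card (α := N)).ne' (hk.trans (pow_zero r))
      exact hk ▸ dvd_pow_self r hk0
    obtain ⟨x, hx, hx1⟩ := hR.exists_fixed_point_of_prime_dvd_card_of_fixed_point (α := N) hd h1
    refine hx1 ?_
    have : x ∈ L := fun h hh => hx ⟨h, hh⟩
    exact ((mem_bot).1 (hL ▸ this)).symm
  · intro h hh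
    exact MulEquiv.ext fun x => (hL.ge (mem_top x)) h hh

end CfsgLib.RegOrbit
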