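import Cfsg.Agent.RegOrbit.Field
import Cfsg.Agent.RegOrbit.Small
import Mathlib.GroupTheory.SpecificGroups.Cyclic
import Mathlib.GroupTheory.GroupAction.ConjAct
import Mathlib.GroupTheory.Sylow

/-!
# Orders of odd completely reducible groups on small modules
-/

set_option autoImplicit false
set_option linter.style.haveILetI false

namespace CfsgLib.RegOrbit

open scoped commutatorElement

universe v

variable {W : Type v} [AddCommGroup W] [Finite W] {G : Subgroup (AutGp W)}

theorem natCard_le_of_base (hB : Base G) : Nat.card G ≤ Nat.card W ^ 2 := by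
  obtain ⟨v, w, h⟩ := hB
  refine (Nat.card_le_card_of_injective
    (fun g : G => (((g : AutGp W) : AddMonoid.End W) v, ((g : AutGp W) : AddMonoid.End W) w))
    fun a b hab => ?_).trans (by rw [Nat.card_prod, sq])
  obtain ⟨h1, h2⟩ := Prod.ext_iff.1 hab
  simp only at h1 h2
  refine Subtype.ext (inv_mul_eq_one.1 (h _ (mul_mem (inv_mem a.2) b.2) ?_ ?_))
  · rw [mul_apply', ← h1, inv_apply']
  · rw [mul_apply', ← h2, inv_apply']

/-- A completely reducible group on an `r`-group has no nontrivial normal `r`-subgroup. -/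
theorem eq_bot_of_normal_pGroup (hcr : CR G) {r d : ℕ} [Fact r.Prime] (hW : Nat.card W = r ^ d)
    (R : Subgroup G) [R.Normal] (hR : IsPGroup r R) : R = ⊥ := by
  let L : AddSubgroup W :=
    { carrier := {x | ∀ g ∈ R, ((g : AutGp W) : AddMonoid.End W) x = x}
      zero_mem' := fun g _ => map_zero _
      add_mem' := fun {a b} ha hb g hg => by rw [map_add, ha g hg, hb g hg]
      neg_mem' := fun {a} ha g hg => by rw [map_neg, ha g hg] }
  have hL : Inv G L := by
    intro a ha x hx g hg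
    have h1 := hx ((⟨a, ha⟩ : G)⁻¹ * g * ⟨a, ha⟩)
      (by simpa using (inferInstance : R.Normal).conj_mem g hg (⟨a, ha⟩ : G)⁻¹)
    rw [Subgroup.coe_mul, Subgroup.coe_mul, mul_apply', mul_apply', Subgroup.coe_inv] at h1
    have h2 := congrArg (a : AddMonoid.End W) h1
    rw [apply_inv'] at h2
    exact h2
  obtain ⟨T, hT, hinf, hsup⟩ := hcr L hL
  have hT0 : T = ⊥ := by
    by_contra hne
    letI : MulAction R T :=
      { smul := fun g t => ⟨((g : AutGp W) : AddMonoid.End W) t, hT _ (g : G).2 _ t.2⟩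
        one_smul := fun t => Subtype.ext rfl
        mul_smul := fun g h t => Subtype.ext rfl }
    have hdvd : r ∣ Nat.card T := by
      obtain ⟨k, -, hk⟩ := (Nat.dvd_prime_pow (Fact.out : r.Prime)).1
        (hW ▸ AddSubgroup.card_addSubgroup_dvd_card T)
      rcases k with _ | k
      · rw [pow_zero, AddSubgroup.card_eq_one] at hk
        exact absurd hk hne
      · exact hk ▸ dvd_pow_self r k.succ_ne_zero
    obtain ⟨t, ht, ht0⟩ := hR.exists_fixed_point_of_prime_dvd_card_of_fixed_point T hdvd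
      (a := (0 : T)) fun g => Subtype.ext (map_zero _)
    refine ht0 (Subtype.ext ?_).symm
    have : (t : W) ∈ L ⊓ T := ⟨fun g hg => congrArg Subtype.val (ht ⟨g, hg⟩), t.2⟩
    rw [hinf, AddSubgroup.mem_bot] at this
    exact this
  rw [hT0, sup_bot_eq] at hsup
  refine (Subgroup.eq_bot_iff_forall R).2 fun g hg => Subtype.ext (eq_one_of_forall fun x => ?_)
  exact (show x ∈ L by rw [hsup]; exact AddSubgroup.mem_top x) g hg

/-- A completely reducible group acts on a module of squarefree exponent only. -/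
theorem nsmul_eq_zero_of_cr (hcr : CR G) {r d : ℕ} [Fact r.Prime] (hW : Nat.card W = r ^ d)
    (x : W) : r • x = 0 := by
  let f : W →+ W := DistribSMul.toAddMonoidHom W r
  have hU : Inv G f.range := by
    rintro a - _ ⟨y, rfl⟩
    exact ⟨(a : AddMonoid.End W) y, (map_nsmul (a : AddMonoid.End W) r y).symm⟩
  obtain ⟨T, -, hinf, hsup⟩ := hcr _ hU
  have h1 : ∀ k : ℕ, ∀ z : W, ∃ w, r • z = r ^ (k + 1) • w := by
    intro k
    induction k with
    | zero => exact fun z => ⟨z, by rw [pow_one]⟩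
    | succ k ih =>
      intro z
      obtain ⟨_, ⟨y, rfl⟩, t, ht, hz⟩ := AddSubgroup.mem_sup.1
        (show z ∈ f.range ⊔ T by rw [hsup]; exact AddSubgroup.mem_top z)
      obtain ⟨w, hw⟩ := ih y
      have ht0 : r • t = 0 := by
        have : r • t ∈ f.range ⊓ T := ⟨⟨t, rfl⟩, T.nsmul_mem ht r⟩
        rwa [hinf, AddSubgroup.mem_bot] at this
      refine ⟨w, ?_⟩
      rw [← hz, nsmul_add, ht0, add_zero, show f y = r • y from rfl, hw, ← mul_nsmul', ← pow_succ']
  obtain ⟨w, hw⟩ := h1 d x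
  rw [hw, pow_succ, mul_nsmul', ← hW]
  exact card_nsmul_eq_zero'

/-- In a completely reducible module no element has order a square of a prime. -/
theorem nsmul_eq_zero_of_sq_nsmul (hcr : CR G) {r : ℕ} (hr : r.Prime) {x : W}
    (hx : (r * r) • x = 0) : r • x = 0 := by
  let f : W →+ W := DistribSMul.toAddMonoidHom W r
  have hU : Inv G f.range := by
    rintro a - _ ⟨y, rfl⟩
    exact ⟨(a : AddMonoid.End W) y, (map_nsmul (a : AddMonoid.End W) r y).symm⟩
  obtain ⟨T, -, hinf, hsup⟩ := hcr _ hU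
  have h1 : ∀ k : ℕ, ∀ z : W, ∃ w, r • z = r ^ (k + 1) • w := by
    intro k
    induction k with
    | zero => exact fun z => ⟨z, by rw [pow_one]⟩
    | succ k ih =>
      intro z
      obtain ⟨_, ⟨y, rfl⟩, t, ht, hz⟩ := AddSubgroup.mem_sup.1
        (show z ∈ f.range ⊔ T by rw [hsup]; exact AddSubgroup.mem_top z)
      obtain ⟨w, hw⟩ := ih y
      have ht0 : r • t = 0 := by
        have : r • t ∈ f.range ⊓ T := ⟨⟨t, rfl⟩, T.nsmul_mem ht r⟩
        rwa [hinf, AddSubgroup.mem_bot] at this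
      refine ⟨w, ?_⟩
      rw [← hz, nsmul_add, ht0, add_zero, show f y = r • y from rfl, hw, ← mul_nsmul', ← pow_succ']
  obtain ⟨a, b, hb, hab⟩ := Nat.exists_eq_pow_mul_and_not_dvd
    (Nat.pos_iff_ne_zero.1 (Nat.card_pos (α := W))) r hr.ne_one
  obtain ⟨w, hw⟩ := h1 a x
  have h2 : b • (r • x) = 0 := by
    rw [hw, ← mul_nsmul', show b * r ^ (a + 1) = r * Nat.card W by rw [hab]; ring, mul_nsmul',
      card_nsmul_eq_zero', nsmul_zero]
  refine AddMonoid.addOrderOf_eq_one_iff.1 (Nat.eq_one_of_dvd_coprimes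
    (hr.coprime_iff_not_dvd.2 hb) ?_ (addOrderOf_dvd_of_nsmul_eq_zero h2))
  exact addOrderOf_dvd_of_nsmul_eq_zero (by rw [← mul_nsmul']; exact hx)

/-- An odd group of given order bound from the general linear group. -/
theorem natCard_dvd_of_cr (hcr : CR G) (hodd : Odd (Nat.card G)) {r d k m : ℕ} [Fact r.Prime]
    (hW : Nat.card W = r ^ d) (hGL : ∏ i : Fin d, (r ^ d - r ^ (i : ℕ)) = 2 ^ k * m) :
    Nat.card G ∣ m := by
  letI : Module (ZMod r) W := AddCommGroup.zmodModule (nsmul_eq_zero_of_cr hcr hW)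
  have h := natCard_dvd_GL_module (V := W) hW ((Units.coeHom _).comp G.subtype)
    fun a b hab => Subtype.ext (Units.ext hab)
  rw [hGL] at h
  exact (Nat.Coprime.pow_right k (Nat.coprime_two_right.2 hodd)).dvd_of_dvd_mul_left h

/-- Commuting elements of orders `5` and `13` do not act on a module of order `81`. -/
theorem not_commute_five_thirteen (hW : Nat.card W = 81) {x y : G} (hx : orderOf x = 5)
    (hy : orderOf y = 13) (hxy : x * y = y * x) : False := by
  have key : ∀ (p : ℕ) [Fact p.Prime] (g : G), orderOf g = p →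
      Nat.card W ≡ Nat.card (MulAction.fixedPoints (Subgroup.zpowers g) W) [MOD p] := fun p _ g hg =>
    (IsPGroup.of_card (p := p) (n := 1) (by rw [Nat.card_zpowers, hg, pow_one])).card_modEq_card_fixedPoints W
  have hsub : ∀ g : G, ∃ L : AddSubgroup W, (∀ z, z ∈ L ↔ ((g : AutGp W) : AddMonoid.End W) z = z) ∧
      Nat.card L = Nat.card (MulAction.fixedPoints (Subgroup.zpowers g) W) := by
    intro g
    refine ⟨({ carrier := {z | ((g : AutGp W) : AddMonoid.End W) z = z}
               zero_mem' := map_zero _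
               add_mem' := fun {a b} (ha : _ = a) (hb : _ = b) => show _ = _ by rw [map_add, ha, hb]
               neg_mem' := fun {a} (ha : _ = a) => show _ = _ by rw [map_neg, ha] } : AddSubgroup W),
      fun z => Iff.rfl, Nat.card_congr (Equiv.subtypeEquivRight fun z => ?_)⟩
    · refine ⟨fun h => ?_, fun h => ?_⟩
      · rintro ⟨u, hu⟩
        obtain ⟨n, rfl⟩ := hu
        have hs : Subgroup.zpowers g ≤ MulAction.stabilizer G z :=
          Subgroup.zpowers_le.2 (MulAction.mem_stabilizer_iff.2 h)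
        exact hs ⟨n, rfl⟩
      · exact h ⟨g, Subgroup.mem_zpowers g⟩
  obtain ⟨Lx, hLx, hcx⟩ := hsub x
  obtain ⟨Ly, hLy, hcy⟩ := hsub y
  haveI : Fact (Nat.Prime 5) := ⟨by norm_num⟩
  haveI : Fact (Nat.Prime 13) := ⟨by norm_num⟩
  have h5 := key 5 x hx
  have h13 := key 13 y hy
  rw [hW, ← hcx] at h5
  rw [hW, ← hcy] at h13
  have hdiv : ∀ L : AddSubgroup W, Nat.card L ∈ ({1, 3, 9, 27, 81} : Finset ℕ) := by
    intro L
    obtain ⟨k, hk, hk'⟩ := (Nat.dvd_prime_pow Nat.prime_three (m := 4)).1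
      (by simpa [hW] using AddSubgroup.card_addSubgroup_dvd_card L)
    interval_cases k <;> rw [hk'] <;> decide
  have hne1 : ∀ g : G, g ≠ 1 → ∀ L : AddSubgroup W,
      (∀ z, z ∈ L ↔ ((g : AutGp W) : AddMonoid.End W) z = z) → Nat.card L ≠ 81 := by
    intro g hg L hL h
    refine hg (Subtype.ext (eq_one_of_forall fun z => (hL z).1 ?_))
    rw [AddSubgroup.eq_top_of_card_eq L (h.trans hW.symm)]
    exact AddSubgroup.mem_top z
  have hx1 := hne1 x (fun h => by rw [h, orderOf_one] at hx; omega) Lx hLx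
  have hy1 := hne1 y (fun h => by rw [h, orderOf_one] at hy; omega) Ly hLy
  have hcardx : Nat.card Lx = 1 := by
    have := hdiv Lx
    simp only [Finset.mem_insert, Finset.mem_singleton] at this
    unfold Nat.ModEq at h5 h13
    omega
  have hcardy : Nat.card Ly = 3 := by
    have := hdiv Ly
    simp only [Finset.mem_insert, Finset.mem_singleton] at this
    unfold Nat.ModEq at h5 h13
    omega
  -- the element of order `5` fixes the line fixed by the element of order `13`
  letI : MulAction (Subgroup.zpowers x) Ly :=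
    { smul := fun g z => ⟨(((g : G) : AutGp W) : AddMonoid.End W) z, (hLy _).2 (by
        obtain ⟨n, hn⟩ := g.2
        have hc : (g : G) * y = y * g := by rw [← hn]; exact ((Commute.zpow_left hxy) n).eq
        rw [← mul_apply', ← Subgroup.coe_mul, ← hc, Subgroup.coe_mul, mul_apply', (hLy _).1 z.2])⟩
      one_smul := fun z => Subtype.ext rfl
      mul_smul := fun g h z => Subtype.ext rfl }
  have h := (IsPGroup.of_card (p := 5) (n := 1) (G := Subgroup.zpowers x)
    (by rw [Nat.card_zpowers, hx, pow_one])).card_modEq_card_fixedPoints Ly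
  rw [hcardy] at h
  have hle : Nat.card (MulAction.fixedPoints (Subgroup.zpowers x) Ly) ≤ 3 :=
    hcardy ▸ Nat.card_le_card_of_injective _ Subtype.val_injective
  have h3 : Nat.card (MulAction.fixedPoints (Subgroup.zpowers x) Ly) ≤ Nat.card Lx :=
    Nat.card_le_card_of_injective
      (fun z => ⟨(z.1 : W), (hLx _).2 (congrArg Subtype.val (z.2 ⟨x, Subgroup.mem_zpowers x⟩))⟩)
      fun a b hab => Subtype.ext (Subtype.ext (Subtype.mk.inj hab))
  rw [hcardx] at h3
  unfold Nat.ModEq at h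
  omega

theorem natCard_le_nine (hcr : CR G) (hodd : Odd (Nat.card G)) (hW : Nat.card W = 9) :
    Nat.card G = 1 := by
  haveI : Fact (Nat.Prime 3) := ⟨Nat.prime_three⟩
  have h := natCard_dvd_of_cr hcr hodd (r := 3) (d := 2) (k := 4) (m := 3) (by norm_num [hW])
    (by decide)
  obtain ⟨k, -, hk⟩ := (Nat.dvd_prime_pow Nat.prime_three (m := 1)).1 (by simpa using h)
  have hb := eq_bot_of_normal_pGroup hcr (r := 3) (d := 2) (by norm_num [hW]) (⊤ : Subgroup G)
    (IsPGroup.of_card (n := k) (by rw [Subgroup.card_top, hk]))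
  rw [← Subgroup.card_top, hb, Subgroup.card_bot]

theorem natCard_le_twentyFive (hcr : CR G) (hodd : Odd (Nat.card G)) (hW : Nat.card W = 25) :
    Nat.card G ≤ 15 := by
  haveI : Fact (Nat.Prime 5) := ⟨Nat.prime_five⟩
  exact Nat.le_of_dvd (by norm_num) (natCard_dvd_of_cr hcr hodd (r := 5) (d := 2) (k := 5) (m := 15)
    (by norm_num [hW]) (by decide))

theorem natCard_le_fortyNine (hcr : CR G) (hodd : Odd (Nat.card G)) (hW : Nat.card W = 49) :
    Nat.card G ≤ 63 := by
  haveI : Fact (Nat.Prime 7) := ⟨by norm_num⟩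
  exact Nat.le_of_dvd (by norm_num) (natCard_dvd_of_cr hcr hodd (r := 7) (d := 2) (k := 5) (m := 63)
    (by norm_num [hW]) (by decide))

theorem natCard_le_eightyOne (hcr : CR G) (hodd : Odd (Nat.card G)) (hsol : Group.IsSolvable G)
    (hW : Nat.card W = 81) : Nat.card G ≤ 39 := by
  haveI := hsol
  haveI : Fact (Nat.Prime 3) := ⟨Nat.prime_three⟩
  have hGd := natCard_dvd_of_cr hcr hodd (r := 3) (d := 4) (k := 9) (m := 47385) (by norm_num [hW])
    (by decide)
  -- normalized subgroups with commuting elements of order prime to `65` are `3'`-groups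
  have h3 : ∀ B : Subgroup G, B.Normal →
      (∀ a ∈ B, ∀ b ∈ B, a ^ 729 = 1 → b ^ 729 = 1 → a * b = b * a) →
      (∀ a ∈ B, a ^ 729 = 1 → a = 1) ∧ Nat.card B ∣ 65 := by
    intro B hB hc
    let R : Subgroup G :=
      { carrier := {a | a ∈ B ∧ a ^ 729 = 1}
        one_mem' := ⟨one_mem B, one_pow _⟩
        mul_mem' := fun {a b} ha hb =>
          ⟨mul_mem ha.1 hb.1, by
            rw [(show Commute a b from hc a ha.1 b hb.1 ha.2 hb.2).mul_pow, ha.2, hb.2, one_mul]⟩
        inv_mem' := fun {a} ha => ⟨inv_mem ha.1, by rw [inv_pow, ha.2, inv_one]⟩ }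
    haveI : R.Normal := ⟨fun a ha g => ⟨hB.conj_mem a ha.1 g, by
      rw [conj_pow, ha.2, mul_one, mul_inv_cancel]⟩⟩
    have hR : R = ⊥ := eq_bot_of_normal_pGroup hcr (r := 3) (d := 4) (by norm_num [hW]) R
      fun a => ⟨6, Subtype.ext a.2.2⟩
    have h1 : ∀ a ∈ B, a ^ 729 = 1 → a = 1 := fun a ha h => by
      simpa [hR] using (show a ∈ R from ⟨ha, h⟩)
    refine ⟨h1, ?_⟩
    have h2 : Nat.card B ∣ 729 * 65 := (Subgroup.card_subgroup_dvd_card B).trans hGd
    refine Nat.Coprime.dvd_of_dvd_mul_left ?_ h2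
    rw [show 729 = 3 ^ 6 by norm_num]
    refine Nat.Coprime.pow_right 6 ((Nat.prime_three.coprime_iff_not_dvd.2 ?_).symm)
    intro h
    obtain ⟨a, ha⟩ := exists_prime_orderOf_dvd_card' 3 h
    have ha3 : (a : G) ^ 729 = 1 := orderOf_dvd_iff_pow_eq_one.1 (by
      rw [Subgroup.orderOf_coe, ha]; norm_num)
    have := Subtype.ext (h1 a a.2 ha3) (a1 := a) (a2 := 1)
    rw [this, orderOf_one] at ha
    omega
  -- no nilpotent normal subgroup of order `65`
  have h65 : ∀ B : Subgroup G, B.Normal → Nat.card B ∣ 65 →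
      (∀ a ∈ B, ∀ b ∈ B, ∀ c ∈ B, ⁅a, b⁆ * c = c * ⁅a, b⁆) →
      IsCyclic B ∧ (Nat.card B = 1 ∨ Nat.card B = 5 ∨ Nat.card B = 13) := by
    intro B _ hd hcen
    have : Nat.card B ∈ Nat.divisors 65 := Nat.mem_divisors.2 ⟨hd, by norm_num⟩
    rw [show Nat.divisors 65 = {1, 5, 13, 65} by decide] at this
    simp only [Finset.mem_insert, Finset.mem_singleton] at this
    rcases this with h | h | h | h
    · haveI : Subsingleton B := (Nat.card_eq_one_iff_unique.1 h).1
      exact ⟨inferInstance, Or.inl h⟩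
    · haveI : Fact (Nat.Prime 5) := ⟨Nat.prime_five⟩
      exact ⟨isCyclic_of_prime_card h, Or.inr (Or.inl h)⟩
    · haveI : Fact (Nat.Prime 13) := ⟨by norm_num⟩
      exact ⟨isCyclic_of_prime_card h, Or.inr (Or.inr h)⟩
    · exfalso
      haveI : Fact (Nat.Prime 5) := ⟨Nat.prime_five⟩
      haveI : Fact (Nat.Prime 13) := ⟨by norm_num⟩
      obtain ⟨a, ha⟩ := exists_prime_orderOf_dvd_card' (G := B) 5 (h ▸ by norm_num)
      obtain ⟨b, hb⟩ := exists_prime_orderOf_dvd_card' (G := B) 13 (h ▸ by norm_num)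
      refine not_commute_five_thirteen hW (x := (a : G)) (y := (b : G))
        (by rw [Subgroup.orderOf_coe, ha]) (by rw [Subgroup.orderOf_coe, hb]) ?_
      set c : G := ⁅(a : G), (b : G)⁆ with hc
      have hca : c * a = a * c := hcen a a.2 b b.2 a a.2
      have hcb : c * b = b * c := hcen a a.2 b b.2 b b.2
      have ha5 : (a : G) ^ 5 = 1 := orderOf_dvd_iff_pow_eq_one.1 (by rw [Subgroup.orderOf_coe, ha])
      have hb13 : (b : G) ^ 13 = 1 :=
        orderOf_dvd_iff_pow_eq_one.1 (by rw [Subgroup.orderOf_coe, hb])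
      have hab : (a : G) * b * (a : G)⁻¹ = c * b := by rw [hc, commutatorElement_def]; group
      have hba : (b : G) * a * (b : G)⁻¹ = c⁻¹ * a := by rw [hc, commutatorElement_def]; group
      have h13 : c ^ 13 = 1 := by
        have h := conj_pow (i := 13) (a := (a : G)) (b := (b : G))
        rw [hab, (show Commute c b from hcb).mul_pow, hb13] at h
        simpa using h
      have h5 : c ^ 5 = 1 := by
        have h := conj_pow (i := 5) (a := (b : G)) (b := (a : G))
        rw [hba, (show Commute c a from hca).inv_left.mul_pow, ha5] at h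
        simpa using h
      have hc1 : c = 1 := by
        have : c ^ Nat.gcd 5 13 = 1 := pow_gcd_eq_one.2 ⟨h5, h13⟩
        norm_num at this
        exact this
      rw [hc, commutatorElement_eq_one_iff_mul_comm] at hc1
      exact hc1
  obtain ⟨M, ⟨hMn, hMc⟩, hMmax⟩ := Set.Finite.exists_maximalFor id
    {M : Subgroup G | M.Normal ∧ ∀ a ∈ M, ∀ b ∈ M, a * b = b * a} (Set.toFinite _)
    ⟨⊥, inferInstance, fun a ha b _ => by rw [Subgroup.mem_bot.1 ha, one_mul, mul_one]⟩
  haveI := hMn
  obtain ⟨hMcyc, hMcard⟩ := h65 M hMn (h3 M hMn fun a ha b hb _ _ => hMc a ha b hb).2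
    fun a ha b hb c hc => hMc _ (by rw [commutatorElement_def]
                                    exact mul_mem (mul_mem (mul_mem ha hb) (inv_mem ha)) (inv_mem hb)) c hc
  have hM1 : ∀ a ∈ M, a ^ 729 = 1 → a = 1 :=
    (h3 M hMn fun a ha b hb _ _ => hMc a ha b hb).1
  -- `M` is its own centralizer
  set C : Subgroup G := (MulAut.conjNormal : G →* MulAut M).ker with hC
  have hCmem : ∀ g, g ∈ C → ∀ m ∈ M, g * m = m * g := by
    intro g hg m hm
    have h := congrArg Subtype.val (DFunLike.congr_fun (MonoidHom.mem_ker.1 hg) ⟨m, hm⟩)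
    simp only [MulAut.conjNormal_apply, MulAut.one_apply] at h
    exact mul_inv_eq_iff_eq_mul.1 h
  have hCM : C ≤ M := by
    by_contra hne
    obtain ⟨B0, ⟨hB0n, hB0C, hB0M⟩, hmin⟩ := Set.Finite.exists_minimalFor id
      {B : Subgroup G | B.Normal ∧ B ≤ C ∧ ¬ B ≤ M} (Set.toFinite _)
      ⟨C, MonoidHom.normal_ker _, le_rfl, hne⟩
    haveI := hB0n
    have hlt : ⁅B0, B0⁆ < B0 :=
      Group.IsSolvable.commutator_lt_of_ne_bot fun h => hB0M (h ▸ bot_le)
    have hcomm : ⁅B0, B0⁆ ≤ M := by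
      by_contra h
      exact not_le_of_gt hlt (hmin ⟨inferInstance, hlt.le.trans hB0C, h⟩ hlt.le)
    set B := B0 ⊔ M with hB
    have hBn : B.Normal := inferInstance
    have hBM : ∀ b ∈ B, ∀ m ∈ M, b * m = m * b := by
      intro b hb m hm
      obtain ⟨b0, hb0, n, hn, rfl⟩ := Subgroup.mem_sup_of_normal_right.1 (by exact hb)
      rw [mul_assoc, hMc n hn m hm, ← mul_assoc, hCmem b0 (hB0C hb0) m hm, mul_assoc]
    have hBcomm : ∀ a ∈ B, ∀ b ∈ B, ⁅a, b⁆ ∈ M := by
      intro a ha b hb
      obtain ⟨a0, ha0, n, hn, rfl⟩ := Subgroup.mem_sup_of_normal_right.1 (by exact ha)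
      obtain ⟨b0, hb0, n', hn', rfl⟩ := Subgroup.mem_sup_of_normal_right.1 (by exact hb)
      have h1 : ⁅a0, b0⁆ ∈ M := hcomm (Subgroup.commutator_mem_commutator ha0 hb0)
      rwa [show ⁅a0 * n, b0 * n'⁆ = ⁅a0, b0⁆ by
        simp only [commutatorElement_def]
        rw [mul_inv_rev, mul_inv_rev]
        calc a0 * n * (b0 * n') * (n⁻¹ * a0⁻¹) * (n'⁻¹ * b0⁻¹)
            = a0 * ((n * (b0 * n')) * n⁻¹) * a0⁻¹ * (n'⁻¹ * b0⁻¹) := by group
          _ = a0 * (b0 * n') * a0⁻¹ * (n'⁻¹ * b0⁻¹) := by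
            rw [← hBM _ hb n hn, mul_inv_cancel_right]
          _ = a0 * b0 * (n' * a0⁻¹) * (n'⁻¹ * b0⁻¹) := by group
          _ = a0 * b0 * a0⁻¹ * b0⁻¹ := by
            rw [← hCmem _ (inv_mem (hB0C ha0)) n' hn']; group]
    have h729 : ∀ a ∈ B, ∀ b ∈ B, a ^ 729 = 1 → b ^ 729 = 1 → a * b = b * a := by
      intro a ha b hb ha3 hb3
      have hc : ⁅a, b⁆ * b = b * ⁅a, b⁆ := (hBM b hb _ (hBcomm a ha b hb)).symm
      have h := conj_pow (i := 729) (a := a) (b := b)
      rw [show a * b * a⁻¹ = ⁅a, b⁆ * b by rw [commutatorElement_def]; group,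
        (show Commute ⁅a, b⁆ b from hc).mul_pow, hb3] at h
      exact commutatorElement_eq_one_iff_mul_comm.1
        (hM1 _ (hBcomm a ha b hb) (by simpa using h))
    obtain ⟨hBcyc, -⟩ := h65 B hBn (h3 B hBn h729).2
      fun a ha b hb c hc => (hBM c hc _ (hBcomm a ha b hb)).symm
    haveI := hBcyc
    refine hB0M (le_sup_left.trans (hMmax ⟨hBn, fun a ha b hb => ?_⟩ (le_sup_right : M ≤ B)))
    letI := IsCyclic.commGroup (α := B)
    exact congrArg Subtype.val (mul_comm (⟨a, ha⟩ : B) ⟨b, hb⟩)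
  -- so the group embeds into `M` extended by odd automorphisms
  have hGC : Nat.card G = C.index * Nat.card C := by rw [mul_comm, Subgroup.card_mul_index]
  have hCle : Nat.card C ≤ Nat.card M := Nat.card_le_card_of_injective _ (Subgroup.inclusion_injective hCM)
  have hidx : C.index ∣ Nat.card (MulAut M) := by
    rw [hC, Subgroup.index_ker]
    exact Subgroup.card_subgroup_dvd_card _
  haveI := hMcyc
  rw [IsCyclic.card_mulAut] at hidx
  have hiodd : Odd C.index := hodd.of_dvd_nat C.index_dvd_card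
  rcases hMcard with h | h | h <;> rw [h] at hidx hCle
  · have h1 : C.index = 1 := Nat.dvd_one.1 (by simpa using hidx)
    rw [hGC, h1]; omega
  · have h1 : C.index ≤ 4 := Nat.le_of_dvd (by norm_num) (by
      simpa [Nat.totient_prime Nat.prime_five] using hidx)
    rw [hGC]; nlinarith
  · have h1 : C.index ∣ 12 := by
      simpa [Nat.totient_prime (show Nat.Prime 13 by norm_num)] using hidx
    have h2 : C.index ∣ 3 := (Nat.Coprime.pow_right 2 (Nat.coprime_two_right.2 hiodd)).dvd_of_dvd_mul_left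
      (by simpa using h1)
    have h3 : C.index ≤ 3 := Nat.le_of_dvd (by norm_num) h2
    rw [hGC]; nlinarith

end CfsgLib.RegOrbit
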