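import Cfsg.Agent.RegOrbit.Extension
import Cfsg.Agent.RegOrbit.WBound

/-!
# The module of a subgroup of symplectic type
-/

set_option autoImplicit false
set_option linter.style.haveILetI false

namespace CfsgLib.RegOrbit

open scoped commutatorElement

universe v

variable {G : Type v} [Group G] [Finite G] {F : Type*} [Field F] {A Z E : Subgroup G}

/-- What the count needs about the action on `E` modulo `Z`. -/
theorem SympData.exists_module (h : SympData A Z E) {ι : Z →* Fˣ} (hι : Function.Injective ι)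
    (hmax : ∀ M ≤ A, NormBy A M → (∀ x ∈ M, ∀ y ∈ M, x * y = y * x) → Z ≤ M → M ≤ Z)
    (hsol : Group.IsSolvable A) :
    ∃ (W : Type v) (_ : AddCommGroup W) (_ : Finite W) (B : Subgroup (AutGp W)),
      Nat.card W = Z.relIndex E ∧ Nat.card B ∣ Nat.card A ∧ Group.IsSolvable B ∧ CR B ∧
      E.relIndex (A ⊓ Subgroup.centralizer (Z : Set G)) ≤ Nat.card B ∧
      ∀ u ∈ E, ∀ r : ℕ, r.Prime → u ^ (r * r) ∈ Z → u ^ r ∈ Z := by
  classical
  haveI := h.normal
  haveI := hsol
  set N := Z.subgroupOf E with hN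
  let Q := E ⧸ N
  have hcommQ : ∀ x y : Q, x * y = y * x := by
    rintro ⟨x⟩ ⟨y⟩
    show ((x * y : E) : Q) = ((y * x : E) : Q)
    rw [QuotientGroup.eq_iff_div_mem, hN, Subgroup.mem_subgroupOf, div_eq_mul_inv]
    push_cast
    rw [show (x : G) * y * ((y : G) * x)⁻¹ = ⁅(x : G), (y : G)⁆ by
      simp [commutatorElement_def, mul_assoc]]
    exact h.comm x x.2 y y.2
  letI : CommGroup Q := { (inferInstance : Group Q) with mul_comm := hcommQ }
  haveI : Finite Q := Quotient.finite _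
  let cj : A → E →* E := fun a => MonoidHom.mk'
    (fun u => ⟨(a : G) * u * (a : G)⁻¹, h.normE a a.2 u u.2⟩) fun u w => Subtype.ext (by
      show (a : G) * ((u : G) * w) * (a : G)⁻¹ = (a : G) * u * (a : G)⁻¹ * ((a : G) * w * (a : G)⁻¹)
      group)
  have hcj : ∀ a, N ≤ N.comap (cj a) := fun a z hz => h.normZ a a.2 _ hz
  let φ : A → Q →* Q := fun a => QuotientGroup.map N N (cj a) (hcj a)
  have hφ : ∀ a (u : E), φ a (u : Q) = ((cj a u : E) : Q) := fun a u => rfl
  let ψ₀ : A →* AddMonoid.End (Additive Q) :=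
    { toFun := fun a => (MonoidHom.toAdditive (φ a) : Additive Q →+ Additive Q)
      map_one' := AddMonoidHom.ext fun x => by
        obtain ⟨x⟩ := x
        show φ 1 (x : Q) = (x : Q)
        rw [hφ]
        exact congrArg _ (Subtype.ext (by simp [cj]))
      map_mul' := fun a b => AddMonoidHom.ext fun x => by
        obtain ⟨x⟩ := x
        show φ (a * b) (x : Q) = φ a (φ b (x : Q))
        rw [hφ, hφ, hφ]
        exact congrArg _ (Subtype.ext (by simp [cj, mul_assoc])) }
  let ψ : A →* AutGp (Additive Q) := ψ₀.toHomUnits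
  have hψ : ∀ (a : A) (u : E),
      (ψ a : AddMonoid.End (Additive Q)) (Additive.ofMul (u : Q)) =
        Additive.ofMul ((cj a u : E) : Q) := fun a u => rfl
  suffices hcr : CR ψ.range by
    refine ⟨Additive Q, inferInstance, inferInstance, ψ.range, rfl, Subgroup.card_range_dvd ψ,
      Group.isSolvable_of_surjective ψ.rangeRestrict_surjective, hcr, ?_, ?_⟩
    swap
    · intro u hu r hr hur
      have h1 : ∀ k : ℕ, k • Additive.ofMul ((⟨u, hu⟩ : E) : Q) = 0 ↔ u ^ k ∈ Z := fun k => by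
        show Additive.ofMul (((⟨u, hu⟩ : E) : Q) ^ k) = Additive.ofMul 1 ↔ _
        rw [Additive.ofMul.apply_eq_iff_eq, ← QuotientGroup.mk_pow, QuotientGroup.eq_one_iff, hN,
          Subgroup.mem_subgroupOf]
        rfl
      exact (h1 r).1 (nsmul_eq_zero_of_sq_nsmul hcr hr ((h1 _).2 hur))
    set C := A ⊓ Subgroup.centralizer (Z : Set G) with hC
    let ψC : C →* AutGp (Additive Q) := ψ.comp (Subgroup.inclusion inf_le_left)
    have hker : ψC.ker ≤ E.subgroupOf C := by
      intro c hc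
      refine h.mem_of_commutator_mem hι c.2 fun u hu => ?_
      have h1 := hψ (Subgroup.inclusion inf_le_left c) ⟨u, hu⟩
      rw [show ψ (Subgroup.inclusion inf_le_left c) = 1 from hc] at h1
      have h2 : ((cj (Subgroup.inclusion inf_le_left c) ⟨u, hu⟩ : E) : Q) = ((⟨u, hu⟩ : E) : Q) :=
        h1.symm
      rw [QuotientGroup.eq_iff_div_mem, hN, Subgroup.mem_subgroupOf, div_eq_mul_inv] at h2
      rw [commutatorElement_def]
      exact h2
    calc E.relIndex C ≤ ψC.ker.index :=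
          Nat.le_of_dvd (Nat.pos_of_ne_zero Subgroup.index_ne_zero_of_finite)
            (Subgroup.index_dvd_of_le hker)
      _ = Nat.card ψC.range := Subgroup.index_ker _
      _ ≤ Nat.card ψ.range := Nat.card_le_card_of_injective _
          (Subgroup.inclusion_injective (show ψC.range ≤ ψ.range by
            rintro _ ⟨c, rfl⟩; exact ⟨_, rfl⟩))
  intro U hU
  -- the preimages
  let pre : AddSubgroup (Additive Q) → Subgroup G := fun T =>
    ((AddSubgroup.toSubgroup' T).comap (QuotientGroup.mk' N)).map E.subtype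
  have hpre : ∀ T (u : E), (u : G) ∈ pre T ↔ Additive.ofMul (u : Q) ∈ T := fun T u => by
    refine (Subgroup.mem_map_iff_mem E.subtype_injective).trans ?_
    rfl
  have hpreE : ∀ T, pre T ≤ E := fun T => Subgroup.map_subtype_le _
  set Y := pre U with hY
  have hYn : NormBy A Y := by
    intro a ha y hy
    obtain ⟨u, rfl⟩ : ∃ u : E, (u : G) = y := ⟨⟨y, hpreE U hy⟩, rfl⟩
    rw [show a * (u : G) * a⁻¹ = ((cj ⟨a, ha⟩ u : E) : G) from rfl, hpre, ← hψ]
    exact hU _ ⟨_, rfl⟩ _ ((hpre U u).1 hy)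
  have hZpre : ∀ T, Z ≤ pre T := fun T z hz => by
    refine (hpre T ⟨z, h.le hz⟩).2 ?_
    rw [show ((⟨z, h.le hz⟩ : E) : Q) = 1 from (QuotientGroup.eq_one_iff _).2 hz]
    exact zero_mem T
  have hrad : Y ⊓ Subgroup.centralizer (Y : Set G) ≤ Z :=
    hmax _ (inf_le_left.trans ((hpreE U).trans (h.leC.trans inf_le_left)))
      (hYn.inf hYn.centralizer)
      (fun x hx y hy => Subgroup.mem_centralizer_iff.1 hy.2 x hx.1)
      (le_inf (hZpre U) fun z hz => Subgroup.mem_centralizer_iff.2 fun x hx =>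
        h.centralE hz (hpreE U hx))
  set P := E ⊓ Subgroup.centralizer (Y : Set G) with hP
  let T : AddSubgroup (Additive Q) :=
    Subgroup.toAddSubgroup ((P.subgroupOf E).map (QuotientGroup.mk' N))
  have hT : ∀ u : E, Additive.ofMul (u : Q) ∈ T ↔ (u : G) ∈ P := by
    intro u
    refine ⟨fun hu => ?_, fun hu => ⟨u, hu, rfl⟩⟩
    obtain ⟨w, hw, hwu⟩ := hu
    have hz : ((w⁻¹ * u : E) : G) ∈ Z :=
      Subgroup.mem_subgroupOf.1 (QuotientGroup.eq.1 hwu)
    have hzP : ((w⁻¹ * u : E) : G) ∈ P := ⟨h.le hz, Subgroup.mem_centralizer_iff.2 fun x hx =>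
      h.centralE hz (hpreE U hx)⟩
    have := P.mul_mem hw hzP
    simpa using this
  refine ⟨T, ?_, ?_, ?_⟩
  · rintro _ ⟨a, rfl⟩ x hx
    obtain ⟨x⟩ := x
    rw [show (Quot.mk _ x : Additive Q) = Additive.ofMul (x : Q) from rfl] at hx ⊢
    rw [hψ, hT]
    exact NormBy.inf h.normE hYn.centralizer a a.2 _ ((hT x).1 hx)
  · refine (AddSubgroup.eq_bot_iff_forall _).2 fun x hx => ?_
    obtain ⟨x⟩ := x
    rw [show (Quot.mk _ x : Additive Q) = Additive.ofMul (x : Q) from rfl] at hx ⊢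
    have hz : (x : G) ∈ Z := hrad ⟨(hpre U x).2 hx.1, ((hT x).1 hx.2).2⟩
    show Additive.ofMul (x : Q) = Additive.ofMul (1 : Q)
    exact congrArg _ ((QuotientGroup.eq_one_iff _).2 hz)
  · refine eq_top_iff.2 fun x _ => ?_
    obtain ⟨x⟩ := x
    rw [show (Quot.mk _ x : Additive Q) = Additive.ofMul (x : Q) from rfl]
    have hle : Y ⊔ P ≤ pre (U ⊔ T) := sup_le
      (fun y hy => (hpre _ ⟨y, hpreE U hy⟩).2
        (AddSubgroup.mem_sup_left ((hpre U ⟨y, hpreE U hy⟩).1 hy)))
      (fun y hy => (hpre _ ⟨y, hy.1⟩).2 (AddSubgroup.mem_sup_right ((hT ⟨y, hy.1⟩).2 hy)))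
    rw [h.sup_centralizer hι (hZpre U) (hpreE U) hrad] at hle
    exact (hpre _ x).1 (hle x.2)

end CfsgLib.RegOrbit
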