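import Cfsg.Agent.RegOrbit.Primitive

/-!
# Completely reducible solvable groups of odd order have a base of two vectors
-/

set_option autoImplicit false
set_option linter.style.haveILetI false

namespace CfsgLib.RegOrbit

universe v

/-- The theorem of Seress for solvable groups of odd order. -/
theorem base_of_odd {V : Type v} [AddCommGroup V] [Finite V] {A : Subgroup (AutGp V)}
    (hodd : Odd (Nat.card A)) (hsol : Group.IsSolvable A) (hcr : CR A) : Base A := by
  suffices h : ∀ N : ℕ, BaseBelow.{v} N from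
    h (Nat.card V + 1) V _ inferInstance A (Nat.lt_succ_self _) hodd hsol hcr
  intro N
  induction N with
  | zero => exact fun W _ _ _ h => absurd h (Nat.not_lt_zero _)
  | succ N ih =>
    intro W _ _ B hlt hBodd hBsol hBcr
    rcases Nat.lt_succ_iff_lt_or_eq.1 hlt with h | h
    · exact ih W _ inferInstance B h hBodd hBsol hBcr
    subst h
    rcases subsingleton_or_nontrivial W with hW | hW
    · exact ⟨0, 0, fun a _ _ _ => eq_one_of_forall fun v => Subsingleton.elim _ _⟩
    by_cases hirr : Irred B
    · by_cases hprim : Prim B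
      · exact base_of_primitive hBodd hBsol hprim hirr ih
      · simp only [Prim, not_forall] at hprim
        obtain ⟨ι, hι, U, hU, σ, hσ, hns⟩ := hprim
        exact base_of_imprimitive hBodd hBsol hirr ih hU σ hσ hns
    · simp only [Irred, not_forall, not_or] at hirr
      obtain ⟨U, hU, hU0, hU1⟩ := hirr
      exact base_of_reducible hBodd hBsol hBcr ih hU hU0 hU1

/-- The version for an action. -/
theorem exists_pair_of_odd_solvable {A V : Type*} [Group A] [Finite A] [AddCommGroup V] [Finite V]
    [DistribMulAction A V] [FaithfulSMul A V] (hodd : Odd (Nat.card A))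
    (hsol : Group.IsSolvable A)
    (hcr : ∀ U : AddSubgroup V, (∀ a : A, ∀ v ∈ U, a • v ∈ U) →
      ∃ W : AddSubgroup V, (∀ a : A, ∀ w ∈ W, a • w ∈ W) ∧ U ⊓ W = ⊥ ∧ U ⊔ W = ⊤) :
    ∃ v w : V, ∀ a : A, a • v = v → a • w = w → a = 1 := by
  haveI := hsol
  let ρ : A →* AutGp V := (DistribMulAction.toAddMonoidEnd A V).toHomUnits
  have hρ : Function.Injective ρ := fun a b hab => eq_of_smul_eq_smul fun v : V =>
    DFunLike.congr_fun (congrArg Units.val hab) v
  obtain ⟨v, w, h⟩ := base_of_odd (A := ρ.range) (hodd.of_dvd_nat (Subgroup.card_range_dvd ρ))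
    (Group.isSolvable_of_surjective ρ.rangeRestrict_surjective) (fun U hU => by
      obtain ⟨T, hT, h1, h2⟩ := hcr U fun a u hu => hU _ ⟨a, rfl⟩ u hu
      refine ⟨T, ?_, h1, h2⟩
      rintro _ ⟨a, rfl⟩ u hu
      exact hT a u hu)
  refine ⟨v, w, fun a hav haw => hρ ?_⟩
  rw [map_one]
  exact h _ ⟨a, rfl⟩ hav haw

end CfsgLib.RegOrbit
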