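import Cfsg.Agent.RegOrbit.PowerSet
import Mathlib.Algebra.Module.Basic
import Mathlib.Algebra.BigOperators.Group.Finset.Basic
import Mathlib.Algebra.Ring.Subring.Basic
import Mathlib.Tactic

/-!
# Bases of two vectors: definitions and the reduction along a permuted decomposition
-/

set_option autoImplicit false
set_option linter.style.haveILetI false

namespace CfsgLib.RegOrbit

open Equiv

universe v

variable {V : Type v} [AddCommGroup V]

/-- Groups of automorphisms of an additive group, as units of its endomorphism ring. -/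
abbrev AutGp (V : Type v) [AddCommGroup V] := (AddMonoid.End V)ˣ

/-- An invariant subgroup. -/
def Inv (A : Subgroup (AutGp V)) (W : AddSubgroup V) : Prop :=
  ∀ a ∈ A, ∀ v ∈ W, (a : AddMonoid.End V) v ∈ W

/-- Every invariant subgroup has an invariant complement. -/
def CR (A : Subgroup (AutGp V)) : Prop :=
  ∀ U, Inv A U → ∃ W, Inv A W ∧ U ⊓ W = ⊥ ∧ U ⊔ W = ⊤

/-- Some pair of vectors is fixed only by the identity. -/
def Base (A : Subgroup (AutGp V)) : Prop :=
  ∃ v w : V, ∀ a ∈ A, (a : AddMonoid.End V) v = v → (a : AddMonoid.End V) w = w → a = 1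

theorem mul_apply' (a b : AutGp V) (v : V) :
    ((a * b : AutGp V) : AddMonoid.End V) v = (a : AddMonoid.End V) ((b : AddMonoid.End V) v) :=
  rfl

theorem one_apply' (v : V) : ((1 : AutGp V) : AddMonoid.End V) v = v := rfl

theorem inv_apply' (a : AutGp V) (v : V) :
    ((a⁻¹ : AutGp V) : AddMonoid.End V) ((a : AddMonoid.End V) v) = v := by
  rw [← mul_apply', inv_mul_cancel]; rfl

theorem apply_inv' (a : AutGp V) (v : V) :
    (a : AddMonoid.End V) (((a⁻¹ : AutGp V) : AddMonoid.End V) v) = v := by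
  rw [← mul_apply', mul_inv_cancel]; rfl

theorem eq_one_of_forall {a : AutGp V} (h : ∀ v, (a : AddMonoid.End V) v = v) : a = 1 :=
  Units.ext (AddMonoidHom.ext h)

theorem inv_fix {a : AutGp V} {v : V} (h : (a : AddMonoid.End V) v = v) :
    ((a⁻¹ : AutGp V) : AddMonoid.End V) v = v := by
  conv_lhs => rw [← h]
  exact inv_apply' a v

theorem pow_fix {a : AutGp V} {v : V} (h : (a : AddMonoid.End V) v = v) (n : ℕ) :
    ((a ^ n : AutGp V) : AddMonoid.End V) v = v := by
  induction n with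
  | zero => rw [pow_zero]; rfl
  | succ n ih => rw [pow_succ, mul_apply', h, ih]

/-- In a group of odd order an element whose square fixes a vector fixes it. -/
theorem fix_of_sq_fix' {A : Subgroup (AutGp V)} (hodd : Odd (Nat.card A)) {a : AutGp V}
    (ha : a ∈ A) {v : V} (h : (a : AddMonoid.End V) ((a : AddMonoid.End V) v) = v) :
    (a : AddMonoid.End V) v = v := by
  obtain ⟨k, hk⟩ := exists_pow_two_mul_add_one hodd ha
  have h2 : ((a ^ 2 : AutGp V) : AddMonoid.End V) v = v := by rw [sq, mul_apply', h]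
  calc (a : AddMonoid.End V) v
      = (a : AddMonoid.End V) ((((a ^ 2) ^ k : AutGp V) : AddMonoid.End V) v) := by
        rw [pow_fix h2]
    _ = ((a ^ (2 * k + 1) : AutGp V) : AddMonoid.End V) v := by
        rw [← mul_apply', ← pow_mul, ← pow_succ']
    _ = v := by rw [hk]; rfl

/-- A direct decomposition. -/
structure IsDecomp {ι : Type v} [Fintype ι] (U : ι → AddSubgroup V) : Prop where
  sum : ∀ v, ∃ x : ι → V, (∀ i, x i ∈ U i) ∧ v = ∑ i, x i
  inj : ∀ x : ι → V, (∀ i, x i ∈ U i) → ∑ i, x i = 0 → ∀ i, x i = 0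
  ne : ∀ i, U i ≠ ⊥

theorem IsDecomp.eq_of_sum_eq {ι : Type v} [Fintype ι] {U : ι → AddSubgroup V} (hU : IsDecomp U)
    {x y : ι → V} (hx : ∀ i, x i ∈ U i) (hy : ∀ i, y i ∈ U i) (h : ∑ i, x i = ∑ i, y i) :
    ∀ i, x i = y i := fun i =>
  sub_eq_zero.1 (hU.inj (fun j => x j - y j) (fun j => sub_mem (hx j) (hy j))
    (by rw [Finset.sum_sub_distrib, h, sub_self]) i)

/-- A base for a permuted decomposition from bases of the summands. -/
theorem base_of_decomp [Finite V] {A : Subgroup (AutGp V)} (hodd : Odd (Nat.card A))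
    (hsol : Group.IsSolvable A) {ι : Type v} [Fintype ι] {U : ι → AddSubgroup V}
    (hU : IsDecomp U) (σ : A →* Perm ι)
    (hσ : ∀ (a : A) (i : ι), ∀ u ∈ U i, ((a : AutGp V) : AddMonoid.End V) u ∈ U (σ a i))
    (hrec : ∀ i, ∃ v ∈ U i, ∃ w ∈ U i, ∀ a : A, σ a i = i →
      ((a : AutGp V) : AddMonoid.End V) v = v → ((a : AutGp V) : AddMonoid.End V) w = w →
      ∀ u ∈ U i, ((a : AutGp V) : AddMonoid.End V) u = u) : Base A := by
  classical
  haveI := hsol
  obtain ⟨T, hT⟩ := exists_subsetBase _ ι rfl σ.range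
    (hodd.of_dvd_nat (Subgroup.card_range_dvd σ))
    (Group.isSolvable_of_surjective σ.rangeRestrict_surjective)
  -- a pair of distinct vectors on each summand
  have hrec' : ∀ i, ∃ v ∈ U i, ∃ w ∈ U i, v ≠ w ∧ ∀ a : A, σ a i = i →
      ((a : AutGp V) : AddMonoid.End V) v = v → ((a : AutGp V) : AddMonoid.End V) w = w →
      ∀ u ∈ U i, ((a : AutGp V) : AddMonoid.End V) u = u := by
    intro i
    obtain ⟨v, hv, w, hw, h⟩ := hrec i
    by_cases hvw : v = w
    swap
    · exact ⟨v, hv, w, hw, hvw, h⟩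
    subst hvw
    by_cases hv0 : v = 0
    · subst hv0
      obtain ⟨u, hu, hu0⟩ := (U i).bot_or_exists_ne_zero.resolve_left (hU.ne i)
      exact ⟨u, hu, 0, zero_mem _, hu0, fun a ha _ h0 => h a ha h0 h0⟩
    · exact ⟨v, hv, 0, zero_mem _, hv0, fun a ha h0 _ => h a ha h0 h0⟩
  choose v hv w hw hvw hreg using hrec'
  let rel : Setoid ι :=
    { r := fun i j => ∃ a : A, σ a i = j
      iseqv := ⟨fun i => ⟨1, by rw [map_one]; rfl⟩, fun {i j} => fun ⟨a, ha⟩ =>
        ⟨a⁻¹, by rw [map_inv, ← ha]; exact perm_inv_apply _ _⟩,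
        fun {i j k} => fun ⟨a, ha⟩ ⟨b, hb⟩ => ⟨b * a, by rw [map_mul, Perm.mul_apply, ha, hb]⟩⟩ }
  let r : ι → ι := fun i => (Quotient.mk rel i).out
  have hr : ∀ i, ∃ a : A, σ a (r i) = i := fun i => Quotient.mk_out (s := rel) i
  choose t ht using hr
  let app : A → V → V := fun a u => ((a : AutGp V) : AddMonoid.End V) u
  let x : ι → V := fun i => app (t i) (if i ∈ T then v (r i) else w (r i))
  let y : ι → V := fun i => app (t i) (if i ∈ T then w (r i) else v (r i))
  have hx : ∀ i, x i ∈ U i := fun i => by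
    have := hσ (t i) (r i) (if i ∈ T then v (r i) else w (r i)) (by split <;> simp [hv, hw])
    rwa [ht] at this
  have hy : ∀ i, y i ∈ U i := fun i => by
    have := hσ (t i) (r i) (if i ∈ T then w (r i) else v (r i)) (by split <;> simp [hv, hw])
    rwa [ht] at this
  refine ⟨∑ i, x i, ∑ i, y i, fun a ha hax hay => ?_⟩
  set α : A := ⟨a, ha⟩ with hα
  have hcomp : ∀ z : ι → V, (∀ i, z i ∈ U i) → (a : AddMonoid.End V) (∑ i, z i) = ∑ i, z i →
      ∀ i, app α (z i) = z (σ α i) := by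
    intro z hz hfix i
    have h1 : ∀ j, app α (z ((σ α)⁻¹ j)) ∈ U j := fun j => by
      have := hσ α ((σ α)⁻¹ j) _ (hz ((σ α)⁻¹ j))
      rwa [perm_apply_inv] at this
    have h2 : ∑ j, app α (z ((σ α)⁻¹ j)) = ∑ j, z j := by
      rw [Equiv.sum_comp ((σ α)⁻¹) (fun j => app α (z j))]
      exact (map_sum (a : AddMonoid.End V) _ _).symm.trans hfix
    have := hU.eq_of_sum_eq h1 hz h2 (σ α i)
    rwa [perm_inv_apply] at this
  have hX := hcomp x hx hax
  have hY := hcomp y hy hay
  have hrr : ∀ i, r (σ α i) = r i := fun i => congrArg Quotient.out (Quotient.sound ⟨α⁻¹, by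
    rw [map_inv]; exact perm_inv_apply _ _⟩)
  -- the element induced on a representative
  have hfixr : ∀ i, σ ((t (σ α i))⁻¹ * α * t i) (r i) = r i := fun i => by
    rw [map_mul, map_mul, Perm.mul_apply, Perm.mul_apply, ht i, map_inv, Perm.inv_eq_iff_eq,
      ← hrr i, ht]
  have hind : ∀ i (z z' : V), app α (app (t i) z) = app (t (σ α i)) z' →
      app ((t (σ α i))⁻¹ * α * t i) z = z' := by
    intro i z z' h
    show ((((t (σ α i))⁻¹ * α * t i : A) : AutGp V) : AddMonoid.End V) z = z'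
    rw [Subgroup.coe_mul, Subgroup.coe_mul, mul_apply', mul_apply']
    show (((t (σ α i))⁻¹ : A) : AutGp V).val (app α (app (t i) z)) = z'
    rw [h]
    exact inv_apply' _ _
  have hTfix : ∀ i, σ α i ∈ T ↔ i ∈ T := by
    intro i
    by_contra hne
    set h : A := (t (σ α i))⁻¹ * α * t i with hh
    have key : app h (v (r i)) = w (r i) ∧ app h (w (r i)) = v (r i) := by
      have h1 := hX i
      have h2 := hY i
      simp only [x, y, hrr i] at h1 h2
      by_cases hi : i ∈ T
      · have hi' : σ α i ∉ T := fun h' => hne (iff_of_true h' hi)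
        rw [if_pos hi, if_neg hi'] at h1 h2
        exact ⟨hind i _ _ h1, hind i _ _ h2⟩
      · have hi' : σ α i ∈ T := by
          by_contra h'
          exact hne (iff_of_false h' hi)
        rw [if_neg hi, if_pos hi'] at h1 h2
        exact ⟨hind i _ _ h2, hind i _ _ h1⟩
    have hsq : ∀ z z' : V, app h z = z' → app h z' = z → app h z = z := fun z z' h1 h2 =>
      fix_of_sq_fix' hodd h.2 (by
        show app h (app h z) = z
        rw [h1, h2])
    exact hvw (r i) ((hsq _ _ key.1 key.2).symm.trans key.1)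
  have hσ1 : σ α = 1 := hT (σ α) ⟨α, rfl⟩ hTfix
  refine eq_one_of_forall fun u => ?_
  obtain ⟨z, hz, rfl⟩ := hU.sum u
  rw [map_sum]
  refine Finset.sum_congr rfl fun i _ => ?_
  have hi : σ α i = i := by rw [hσ1]; rfl
  set h : A := (t (σ α i))⁻¹ * α * t i with hh
  have key : app h (v (r i)) = v (r i) ∧ app h (w (r i)) = w (r i) := by
    have h1 := hX i
    have h2 := hY i
    simp only [x, y, hrr i] at h1 h2
    rw [hi] at h1 h2
    have hind' : ∀ z z' : V, app α (app (t i) z) = app (t i) z' → app h z = z' := fun z z' hzz => by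
      refine hind i z z' ?_
      rw [hi]; exact hzz
    by_cases hiT : i ∈ T
    · rw [if_pos hiT] at h1 h2
      exact ⟨hind' _ _ h1, hind' _ _ h2⟩
    · rw [if_neg hiT] at h1 h2
      exact ⟨hind' _ _ h2, hind' _ _ h1⟩
  have h0 := hreg (r i) h (hfixr i) key.1 key.2
    ((((t i)⁻¹ : A) : AutGp V).val (z i)) (by
      have := hσ (t i)⁻¹ i _ (hz i)
      rwa [map_inv, show (σ (t i))⁻¹ i = r i from by rw [Perm.inv_eq_iff_eq, ht]] at this)
  rw [hh, hi, Subgroup.coe_mul, Subgroup.coe_mul, mul_apply', mul_apply', Subgroup.coe_inv,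
    apply_inv'] at h0
  have h3 := congrArg (fun u => ((t i : A) : AutGp V).val u) h0
  simp only [apply_inv'] at h3
  exact h3

/-- The restriction of a subgroup of automorphisms to an invariant subgroup. -/
def resHom (U : AddSubgroup V) (H : Subgroup (AutGp V))
    (hHU : ∀ h ∈ H, ∀ u ∈ U, (h : AddMonoid.End V) u ∈ U) : H →* AutGp U :=
  MonoidHom.toHomUnits
    { toFun := fun h =>
        (((h : AutGp V) : AddMonoid.End V).comp U.subtype).codRestrict U fun u => hHU h h.2 u u.2
      map_one' := AddMonoidHom.ext fun _ => Subtype.ext rfl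
      map_mul' := fun _ _ => AddMonoidHom.ext fun _ => Subtype.ext rfl }

theorem resHom_apply (U : AddSubgroup V) (H : Subgroup (AutGp V))
    (hHU : ∀ h ∈ H, ∀ u ∈ U, (h : AddMonoid.End V) u ∈ U) (h : H) (u : U) :
    (((resHom U H hHU h : AutGp U) : AddMonoid.End U) u : V) =
      ((h : AutGp V) : AddMonoid.End V) u := rfl

/-- A pair on an invariant summand from a base of the restricted group. -/
theorem exists_pair_of_restrict (U : AddSubgroup V) (H : Subgroup (AutGp V))
    (hHU : ∀ h ∈ H, ∀ u ∈ U, (h : AddMonoid.End V) u ∈ U) (hodd : Odd (Nat.card H))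
    (hsol : Group.IsSolvable H)
    (hcr : ∀ U' ≤ U, (∀ h ∈ H, ∀ u ∈ U', (h : AddMonoid.End V) u ∈ U') →
      ∃ W' ≤ U, (∀ h ∈ H, ∀ u ∈ W', (h : AddMonoid.End V) u ∈ W') ∧ U' ⊓ W' = ⊥ ∧ U' ⊔ W' = U)
    (ih : ∀ A' : Subgroup (AutGp U), Odd (Nat.card A') → Group.IsSolvable A' → CR A' → Base A') :
    ∃ v ∈ U, ∃ w ∈ U, ∀ h ∈ H, (h : AddMonoid.End V) v = v → (h : AddMonoid.End V) w = w →
      ∀ u ∈ U, (h : AddMonoid.End V) u = u := by
  haveI := hsol
  set ρ := resHom U H hHU
  have hcr' : CR ρ.range := by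
    intro U₁ hU₁
    have hU' : ∀ h ∈ H, ∀ u ∈ U₁.map U.subtype, (h : AddMonoid.End V) u ∈ U₁.map U.subtype := by
      rintro h hh _ ⟨u, hu, rfl⟩
      exact ⟨_, hU₁ _ ⟨⟨h, hh⟩, rfl⟩ u hu, rfl⟩
    obtain ⟨W', hW'U, hW', hinf, hsup⟩ := hcr (U₁.map U.subtype) (by
      rintro _ ⟨u, -, rfl⟩; exact u.2) hU'
    refine ⟨W'.comap U.subtype, ?_, ?_, ?_⟩
    · rintro _ ⟨h, rfl⟩ u hu
      exact hW' h h.2 _ hu
    · refine (AddSubgroup.eq_bot_iff_forall _).2 fun u hu => Subtype.ext ?_
      have : (u : V) ∈ U₁.map U.subtype ⊓ W' := ⟨⟨u, hu.1, rfl⟩, hu.2⟩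
      rw [hinf, AddSubgroup.mem_bot] at this
      exact this
    · refine AddSubgroup.map_injective U.subtype_injective ?_
      rw [AddSubgroup.map_sup, AddSubgroup.map_comap_eq, U.range_subtype,
        inf_eq_right.2 hW'U, hsup, ← AddMonoidHom.range_eq_map, U.range_subtype]
  obtain ⟨v, w, hvw⟩ := ih ρ.range (hodd.of_dvd_nat (Subgroup.card_range_dvd ρ))
    (Group.isSolvable_of_surjective ρ.rangeRestrict_surjective) hcr'
  refine ⟨v, v.2, w, w.2, fun h hh h1 h2 u hu => ?_⟩
  have h3 := hvw (ρ ⟨h, hh⟩) ⟨_, rfl⟩ (Subtype.ext h1) (Subtype.ext h2)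
  exact congrArg Subtype.val (DFunLike.congr_fun (congrArg Units.val h3) ⟨u, hu⟩)

end CfsgLib.RegOrbit
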