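import Cfsg.Agent.RegOrbit.Field

/-!
# Bases of two vectors: reduction to primitive groups
-/

set_option autoImplicit false
set_option linter.style.haveILetI false

namespace CfsgLib.RegOrbit

open Equiv

universe v

variable {V : Type v} [AddCommGroup V]

/-- The induction hypothesis. -/
def BaseBelow (N : ℕ) : Prop :=
  ∀ (W : Type v) (_ : AddCommGroup W) (_ : Finite W) (B : Subgroup (AutGp W)),
    Nat.card W < N → Odd (Nat.card B) → Group.IsSolvable B → CR B → Base B

theorem natCard_lt_of_ne_top [Finite V] {U : AddSubgroup V} (hU : U ≠ ⊤) :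
    Nat.card U < Nat.card V :=
  lt_of_le_of_ne (Nat.le_of_dvd Nat.card_pos (AddSubgroup.card_addSubgroup_dvd_card U))
    fun h => hU (AddSubgroup.eq_top_of_card_eq U h)

theorem isSolvable_of_le {G : Type*} [Group G] {H A : Subgroup G} (h : H ≤ A)
    (hA : Group.IsSolvable A) : Group.IsSolvable H := by
  haveI := hA
  exact Group.isSolvable_of_isSolvable_injective (Subgroup.inclusion_injective h)

theorem odd_card_of_le {G : Type*} [Group G] {H A : Subgroup G} (h : H ≤ A)
    (hA : Odd (Nat.card A)) : Odd (Nat.card H) :=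
  hA.of_dvd_nat (Subgroup.card_dvd_of_le h)

/-- The reducible case. -/
theorem base_of_reducible [Finite V] {A : Subgroup (AutGp V)} (hodd : Odd (Nat.card A))
    (hsol : Group.IsSolvable A) (hcr : CR A) (ih : BaseBelow.{v} (Nat.card V))
    {U : AddSubgroup V} (hU : Inv A U) (hU0 : U ≠ ⊥) (hU1 : U ≠ ⊤) : Base A := by
  classical
  obtain ⟨W, hW, hinf, hsup⟩ := hcr U hU
  have hW0 : W ≠ ⊥ := fun h => hU1 (by rw [← hsup, h, sup_bot_eq])
  have hW1 : W ≠ ⊤ := fun h => hU0 (by rw [← hinf, h, inf_top_eq])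
  let F : ULift.{v} Bool → AddSubgroup V := fun i => bif i.down then U else W
  have hsum : ∀ x : ULift.{v} Bool → V, ∑ i, x i = x ⟨true⟩ + x ⟨false⟩ := fun x => by
    rw [← Equiv.sum_comp Equiv.ulift.symm, Fintype.sum_bool]; rfl
  have hF : IsDecomp F := by
    refine ⟨fun v => ?_, fun x hx h0 => ?_, ?_⟩
    · obtain ⟨u, hu, w, hw, huw⟩ := AddSubgroup.mem_sup.1
        (show v ∈ U ⊔ W by rw [hsup]; exact AddSubgroup.mem_top v)
      refine ⟨fun i => bif i.down then u else w, ?_, ?_⟩
      · rintro ⟨_ | _⟩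
        · exact hw
        · exact hu
      · rw [hsum]; exact huw.symm
    · rw [hsum] at h0
      have h1 : x ⟨true⟩ ∈ U ⊓ W :=
        ⟨hx ⟨true⟩, by rw [eq_neg_of_add_eq_zero_left h0]; exact W.neg_mem (hx ⟨false⟩)⟩
      rw [hinf, AddSubgroup.mem_bot] at h1
      rw [h1, zero_add] at h0
      rintro ⟨_ | _⟩
      · exact h0
      · exact h1
    · rintro ⟨_ | _⟩
      · exact hW0
      · exact hU0
  refine base_of_decomp hodd hsol hF 1 ?_ ?_
  · rintro a ⟨_ | _⟩ u hu
    · exact hW a a.2 u hu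
    · exact hU a a.2 u hu
  · have key : ∀ P : AddSubgroup V, Inv A P → P ≠ ⊤ → ∃ v ∈ P, ∃ w ∈ P, ∀ a ∈ A,
        (a : AddMonoid.End V) v = v → (a : AddMonoid.End V) w = w →
        ∀ u ∈ P, (a : AddMonoid.End V) u = u := by
      intro P hP hP1
      refine exists_pair_of_restrict P A hP hodd hsol ?_
        (fun B => ih P _ inferInstance B (natCard_lt_of_ne_top hP1))
      intro U' hU'P hU'
      obtain ⟨T, hT, h1, h2⟩ := hcr U' hU'
      refine ⟨P ⊓ T, inf_le_left, fun a ha u hu => ⟨hP a ha u hu.1, hT a ha u hu.2⟩, ?_, ?_⟩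
      · exact eq_bot_iff.2 ((inf_le_inf le_rfl inf_le_right).trans h1.le)
      · refine le_antisymm (sup_le hU'P inf_le_left) fun u hu => ?_
        obtain ⟨x, hx, t, ht, hxt⟩ := AddSubgroup.mem_sup.1
          (show u ∈ U' ⊔ T by rw [h2]; exact AddSubgroup.mem_top u)
        refine AddSubgroup.mem_sup.2 ⟨x, hx, t, ⟨?_, ht⟩, hxt⟩
        rw [show t = u - x by rw [← hxt, add_sub_cancel_left]]
        exact P.sub_mem hu (hU'P hx)
    rintro ⟨_ | _⟩
    · obtain ⟨v, hv, w, hw, h⟩ := key W hW hW1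
      exact ⟨v, hv, w, hw, fun a _ => h a a.2⟩
    · obtain ⟨v, hv, w, hw, h⟩ := key U hU hU1
      exact ⟨v, hv, w, hw, fun a _ => h a a.2⟩

/-- The imprimitive irreducible case. -/
theorem base_of_imprimitive [Finite V] {A : Subgroup (AutGp V)} (hodd : Odd (Nat.card A))
    (hsol : Group.IsSolvable A) (hirr : Irred A) (ih : BaseBelow.{v} (Nat.card V))
    {ι : Type v} [Fintype ι] {U : ι → AddSubgroup V} (hU : IsDecomp U) (σ : A →* Perm ι)
    (hσ : ∀ (a : A) (i : ι), ∀ u ∈ U i, ((a : AutGp V) : AddMonoid.End V) u ∈ U (σ a i))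
    (hι : ¬ Subsingleton ι) : Base A := by
  classical
  refine base_of_decomp hodd hsol hU σ hσ fun i => ?_
  let S : Subgroup A :=
    { carrier := {a | σ a i = i}
      one_mem' := by simp
      mul_mem' := fun {a b} ha hb => by
        show σ (a * b) i = i
        rw [map_mul, Perm.mul_apply, hb, ha]
      inv_mem' := fun {a} ha => by
        show σ a⁻¹ i = i
        rw [map_inv, Perm.inv_eq_iff_eq, ha] }
  set H : Subgroup (AutGp V) := S.map A.subtype with hH
  have hHA : H ≤ A := Subgroup.map_subtype_le S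
  have hHU : ∀ h ∈ H, ∀ u ∈ U i, (h : AddMonoid.End V) u ∈ U i := by
    rintro _ ⟨a, ha, rfl⟩ u hu
    have := hσ a i u hu
    rwa [show σ a i = i from ha] at this
  have hlt : Nat.card (U i) < Nat.card V := by
    refine natCard_lt_of_ne_top fun htop => hι ?_
    have hall : ∀ j, j = i := by
      intro j
      by_contra hji
      obtain ⟨w, hw, hw0⟩ := (U j).bot_or_exists_ne_zero.resolve_left (hU.ne j)
      refine hw0 ?_
      have := hU.eq_of_sum_eq (x := Pi.single j w) (y := Pi.single i w) (fun k => ?_) (fun k => ?_)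
        (by rw [Finset.sum_pi_single', Finset.sum_pi_single']; simp) j
      · rwa [Pi.single_eq_same, Pi.single_eq_of_ne hji] at this
      · by_cases h : k = j
        · subst h; rwa [Pi.single_eq_same]
        · rw [Pi.single_eq_of_ne h]; exact zero_mem _
      · by_cases h : k = i
        · subst h; rw [Pi.single_eq_same, htop]; exact AddSubgroup.mem_top _
        · rw [Pi.single_eq_of_ne h]; exact zero_mem _
    exact ⟨fun a b => (hall a).trans (hall b).symm⟩
  have hcr : ∀ U' ≤ U i, (∀ h ∈ H, ∀ u ∈ U', (h : AddMonoid.End V) u ∈ U') →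
      ∃ W' ≤ U i, (∀ h ∈ H, ∀ u ∈ W', (h : AddMonoid.End V) u ∈ W') ∧ U' ⊓ W' = ⊥ ∧
        U' ⊔ W' = U i := by
    intro U' hU'U hU'
    suffices U' = ⊥ ∨ U' = U i by
      rcases this with h | h
      · exact ⟨U i, le_rfl, hHU, by rw [h, bot_inf_eq], by rw [h, bot_sup_eq]⟩
      · exact ⟨⊥, bot_le, fun a _ u hu => by
            rw [AddSubgroup.mem_bot] at hu ⊢; rw [hu, map_zero],
          inf_bot_eq _, by rw [h, sup_bot_eq]⟩
    set T : AddSubgroup V := ⨆ a : A, U'.map ((a : AutGp V) : AddMonoid.End V) with hT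
    have hTinv : Inv A T := by
      intro a ha u hu
      induction hu using AddSubgroup.iSup_induction' with
      | hp b x hx =>
        obtain ⟨y, hy, rfl⟩ := hx
        exact AddSubgroup.mem_iSup_of_mem ((⟨a, ha⟩ : A) * b) ⟨y, hy, rfl⟩
      | h1 => rw [map_zero]; exact zero_mem _
      | hadd x y _ _ hx hy => rw [map_add]; exact add_mem hx hy
    rcases hirr T hTinv with h | h
    · refine Or.inl (eq_bot_iff.2 fun u hu => ?_)
      rw [← h]
      exact AddSubgroup.mem_iSup_of_mem (1 : A) ⟨u, hu, rfl⟩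
    · refine Or.inr (le_antisymm hU'U fun u hu => ?_)
      let P : AddSubgroup V :=
        { carrier := {v | ∃ x : ι → V, (∀ j, x j ∈ U j) ∧ x i ∈ U' ∧ v = ∑ j, x j}
          zero_mem' := ⟨0, fun j => zero_mem _, zero_mem _, by simp⟩
          add_mem' := by
            rintro _ _ ⟨x, hx, hxi, rfl⟩ ⟨y, hy, hyi, rfl⟩
            exact ⟨x + y, fun j => add_mem (hx j) (hy j), add_mem hxi hyi,
              Finset.sum_add_distrib.symm⟩
          neg_mem' := by
            rintro _ ⟨x, hx, hxi, rfl⟩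
            exact ⟨-x, fun j => neg_mem (hx j), neg_mem hxi, (Finset.sum_neg_distrib x).symm⟩ }
      have hTP : T ≤ P := by
        refine iSup_le fun a => ?_
        rintro _ ⟨y, hy, rfl⟩
        refine ⟨Pi.single (σ a i) (((a : AutGp V) : AddMonoid.End V) y), fun j => ?_, ?_, ?_⟩
        · by_cases hj : j = σ a i
          · subst hj; rw [Pi.single_eq_same]; exact hσ a i y (hU'U hy)
          · rw [Pi.single_eq_of_ne hj]; exact zero_mem _
        · by_cases hai : σ a i = i
          · rw [hai, Pi.single_eq_same]; exact hU' _ ⟨a, hai, rfl⟩ y hy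
          · rw [Pi.single_eq_of_ne (Ne.symm hai)]; exact zero_mem _
        · rw [Finset.sum_pi_single']; simp; rfl
      obtain ⟨x, hx, hxi, hsum⟩ := hTP (show u ∈ T by rw [h]; exact AddSubgroup.mem_top u)
      have := hU.eq_of_sum_eq (x := Pi.single i u) (fun k => ?_) hx
        (by rw [Finset.sum_pi_single']; simpa using hsum) i
      · rw [Pi.single_eq_same] at this; rwa [this]
      · by_cases hk : k = i
        · subst hk; rwa [Pi.single_eq_same]
        · rw [Pi.single_eq_of_ne hk]; exact zero_mem _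
  obtain ⟨v, hv, w, hw, h⟩ := exists_pair_of_restrict (U i) H hHU (odd_card_of_le hHA hodd)
    (isSolvable_of_le hHA hsol) hcr (fun B => ih (U i) _ inferInstance B hlt)
  exact ⟨v, hv, w, hw, fun a ha => h _ ⟨a, ha, rfl⟩⟩

end CfsgLib.RegOrbit
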