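import Cfsg.Agent.FpfModule.Bicharacter
import Cfsg.Agent.RegOrbit.Reduction
import Mathlib.GroupTheory.Commutator.Basic
import Mathlib.Tactic

/-!
# A normal subgroup of symplectic type over a maximal abelian normal subgroup
-/

set_option autoImplicit false
set_option linter.style.haveILetI false

namespace CfsgLib.RegOrbit

open scoped commutatorElement

variable {G : Type*} [Group G]

/-- A subgroup normalized by `A`. -/
def NormBy (A H : Subgroup G) : Prop := ∀ a ∈ A, ∀ h ∈ H, a * h * a⁻¹ ∈ H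

theorem NormBy.le_normalizer {A H : Subgroup G} (h : NormBy A H) :
    A ≤ Subgroup.normalizer (H : Set G) := by
  intro a ha
  rw [Subgroup.mem_normalizer_iff]
  intro x
  refine ⟨h a ha x, fun hx => ?_⟩
  have := h a⁻¹ (inv_mem ha) _ hx
  rwa [show a⁻¹ * (a * x * a⁻¹) * a⁻¹⁻¹ = x by group] at this

theorem NormBy.inf {A H L : Subgroup G} (h : NormBy A H) (h' : NormBy A L) : NormBy A (H ⊓ L) :=
  fun a ha x hx => ⟨h a ha x hx.1, h' a ha x hx.2⟩

theorem NormBy.centralizer {A H : Subgroup G} (h : NormBy A H) :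
    NormBy A (Subgroup.centralizer (H : Set G)) := by
  intro a ha x hx
  rw [Subgroup.mem_centralizer_iff] at hx ⊢
  intro y hy
  have h1 := hx _ (h a⁻¹ (inv_mem ha) y hy)
  rw [inv_inv] at h1
  calc y * (a * x * a⁻¹) = a * (a⁻¹ * y * a * x) * a⁻¹ := by group
    _ = a * (x * (a⁻¹ * y * a)) * a⁻¹ := by rw [h1]
    _ = a * x * a⁻¹ * y := by group

theorem NormBy.sup {A H L : Subgroup G} (h : NormBy A H) (h' : NormBy A L) :
    NormBy A (H ⊔ L) := by
  intro a ha x hx
  have hle : H ⊔ L ≤ (H ⊔ L).comap (MulAut.conj a).toMonoidHom := sup_le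
    (fun y hy => Subgroup.mem_comap.2 (Subgroup.mem_sup_left (h a ha y hy)))
    (fun y hy => Subgroup.mem_comap.2 (Subgroup.mem_sup_right (h' a ha y hy)))
  exact hle hx

theorem NormBy.commutator {A H : Subgroup G} (h : NormBy A H) : NormBy A ⁅H, H⁆ := by
  intro a ha x hx
  have hle : ⁅H, H⁆ ≤ (⁅H, H⁆).comap (MulAut.conj a).toMonoidHom :=
    Subgroup.commutator_le.2 fun p hp q hq => Subgroup.mem_comap.2 (by
      rw [map_commutatorElement]
      exact Subgroup.commutator_mem_commutator (h a ha p hp) (h a ha q hq))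
  exact hle hx

/-- In a solvable group a nontrivial subgroup is not perfect. -/
theorem commutator_lt_of_le {A H : Subgroup G} (hsol : Group.IsSolvable A) (hHA : H ≤ A)
    (hH : H ≠ ⊥) : ⁅H, H⁆ < H := by
  haveI := hsol
  have hne : H.subgroupOf A ≠ ⊥ := fun h => hH (by
    rw [← Subgroup.map_subgroupOf_eq_of_le hHA, h, Subgroup.map_bot])
  have h := Group.IsSolvable.commutator_lt_of_ne_bot hne
  have := (Subgroup.map_lt_map_iff_of_injective A.subtype_injective).2 h
  rwa [Subgroup.map_commutator, Subgroup.map_subgroupOf_eq_of_le hHA] at this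

theorem card_mul_relIndex' {H L : Subgroup G} (h : H ≤ L) :
    Nat.card H * H.relIndex L = Nat.card L := by
  have := Subgroup.relIndex_mul_relIndex _ _ _ (bot_le : ⊥ ≤ H) h
  rwa [Subgroup.relIndex_bot_left, Subgroup.relIndex_bot_left] at this

/-- The data of a subgroup of symplectic type over `Z`. -/
structure SympData (A Z E : Subgroup G) : Prop where
  normZ : NormBy A Z
  commZ : ∀ x ∈ Z, ∀ y ∈ Z, x * y = y * x
  normE : NormBy A E
  le : Z ≤ E
  leC : E ≤ A ⊓ Subgroup.centralizer (Z : Set G)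
  comm : ∀ x ∈ E, ∀ y ∈ E, ⁅x, y⁆ ∈ Z
  rad : E ⊓ Subgroup.centralizer (E : Set G) ≤ Z
  cent : A ⊓ Subgroup.centralizer (Z : Set G) ⊓ Subgroup.centralizer (E : Set G) ≤ Z

/-- Over a maximal abelian normal subgroup of a solvable group there is a subgroup of symplectic
type. -/
theorem exists_sympData [Finite G] {A Z : Subgroup G} (hsol : Group.IsSolvable A) (hZA : Z ≤ A)
    (hZn : NormBy A Z) (hZc : ∀ x ∈ Z, ∀ y ∈ Z, x * y = y * x)
    (hmax : ∀ M ≤ A, NormBy A M → (∀ x ∈ M, ∀ y ∈ M, x * y = y * x) → Z ≤ M → M ≤ Z) :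
    ∃ E, SympData A Z E := by
  set C := A ⊓ Subgroup.centralizer (Z : Set G) with hC
  have hZC : Z ≤ C := le_inf hZA fun x hx =>
    Subgroup.mem_centralizer_iff.2 fun y hy => hZc y hy x hx
  have hCn : NormBy A C := NormBy.inf (fun a ha x hx => mul_mem (mul_mem ha hx) (inv_mem ha))
    hZn.centralizer
  obtain ⟨E, ⟨hEn, hZE, hEC, hEcomm, hErad⟩, hEmax⟩ := Set.Finite.exists_maximalFor id
    {E : Subgroup G | NormBy A E ∧ Z ≤ E ∧ E ≤ C ∧ (∀ x ∈ E, ∀ y ∈ E, ⁅x, y⁆ ∈ Z) ∧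
      E ⊓ Subgroup.centralizer (E : Set G) ≤ Z} (Set.toFinite _)
    ⟨Z, hZn, le_rfl, hZC, fun x hx y hy => by
      rw [commutatorElement_eq_one_iff_mul_comm.2 (hZc x hx y hy)]; exact one_mem _, inf_le_left⟩
  refine ⟨E, hZn, hZc, hEn, hZE, hEC, hEcomm, hErad, ?_⟩
  set D := C ⊓ Subgroup.centralizer (E : Set G) with hD
  by_contra hne
  obtain ⟨B0, ⟨hB0n, hB0D, hB0Z⟩, hmin⟩ := Set.Finite.exists_minimalFor id
    {B : Subgroup G | NormBy A B ∧ B ≤ D ∧ ¬ B ≤ Z} (Set.toFinite _)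
    ⟨D, hCn.inf hEn.centralizer, le_rfl, hne⟩
  have hB0C : B0 ≤ C := hB0D.trans inf_le_left
  have hlt : ⁅B0, B0⁆ < B0 :=
    commutator_lt_of_le hsol (hB0C.trans inf_le_left) fun h => hB0Z (h ▸ bot_le)
  have hcomm : ⁅B0, B0⁆ ≤ Z := by
    by_contra h
    exact not_le_of_gt hlt (hmin ⟨hB0n.commutator, hlt.le.trans hB0D, h⟩ hlt.le)
  have hZnorm : ∀ {H : Subgroup G}, H ≤ A → H ≤ Subgroup.normalizer (Z : Set G) :=
    fun h => h.trans hZn.le_normalizer
  set B := B0 ⊔ Z with hB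
  have hBC : B ≤ C := sup_le hB0C hZC
  have hBE : ∀ b ∈ B, ∀ u ∈ E, b * u = u * b := by
    have : B ≤ Subgroup.centralizer (E : Set G) := sup_le (hB0D.trans inf_le_right) fun z hz =>
      Subgroup.mem_centralizer_iff.2 fun u hu =>
        ((Subgroup.mem_centralizer_iff.1 (hEC hu).2) z hz).symm
    exact fun b hb u hu => (Subgroup.mem_centralizer_iff.1 (this hb) u hu).symm
  have hCZ : ∀ c ∈ C, ∀ z ∈ Z, c * z = z * c := fun c hc z hz =>
    (Subgroup.mem_centralizer_iff.1 hc.2 z hz).symm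
  have hBcomm : ∀ x ∈ B, ∀ y ∈ B, ⁅x, y⁆ ∈ Z := by
    intro x hx y hy
    rw [← SetLike.mem_coe, Subgroup.coe_mul_of_left_le_normalizer_right B0 Z
      (hZnorm (hB0C.trans inf_le_left))] at hx hy
    obtain ⟨x0, hx0, z, hz, rfl⟩ := hx
    obtain ⟨y0, hy0, z', hz', rfl⟩ := hy
    have h1 : ⁅x0, y0⁆ ∈ Z := hcomm (Subgroup.commutator_mem_commutator hx0 hy0)
    rwa [show ⁅x0 * z, y0 * z'⁆ = ⁅x0, y0⁆ by
      simp only [commutatorElement_def]
      calc x0 * z * (y0 * z') * (x0 * z)⁻¹ * (y0 * z')⁻¹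
          = x0 * (z * (y0 * z')) * z⁻¹ * x0⁻¹ * z'⁻¹ * y0⁻¹ := by group
        _ = x0 * y0 * (z' * x0⁻¹) * z'⁻¹ * y0⁻¹ := by
          rw [show z * (y0 * z') = y0 * z' * z from
            (hCZ _ (mul_mem (hB0C hy0) (hZC hz')) z hz).symm]
          group
        _ = x0 * y0 * x0⁻¹ * y0⁻¹ := by
          rw [← hCZ _ (inv_mem (hB0C hx0)) z' hz']; group]
  have hnew : (E ⊔ B) ∈ {E : Subgroup G | NormBy A E ∧ Z ≤ E ∧ E ≤ C ∧
      (∀ x ∈ E, ∀ y ∈ E, ⁅x, y⁆ ∈ Z) ∧ E ⊓ Subgroup.centralizer (E : Set G) ≤ Z} := by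
    have hnorm : E ≤ Subgroup.normalizer (B : Set G) :=
      (hEC.trans inf_le_left).trans (hB0n.sup hZn).le_normalizer
    have hmem : ∀ w ∈ E ⊔ B, ∃ u ∈ E, ∃ b ∈ B, u * b = w := fun w hw => by
      rw [← SetLike.mem_coe, Subgroup.coe_mul_of_left_le_normalizer_right E B hnorm] at hw
      exact hw
    refine ⟨hEn.sup (hB0n.sup hZn), hZE.trans le_sup_left, sup_le hEC hBC, ?_, ?_⟩
    · intro x hx y hy
      obtain ⟨u, hu, b, hb, rfl⟩ := hmem x hx
      obtain ⟨u', hu', b', hb', rfl⟩ := hmem y hy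
      rw [show ⁅u * b, u' * b'⁆ = ⁅u, u'⁆ * ⁅b, b'⁆ by
        have hz := hCZ _ (hBC hb) _ (hEcomm u hu u' hu')
        simp only [commutatorElement_def] at hz ⊢
        calc u * b * (u' * b') * (u * b)⁻¹ * (u' * b')⁻¹
            = u * (b * u') * b' * (b⁻¹ * u⁻¹) * b'⁻¹ * u'⁻¹ := by group
          _ = u * u' * b * (b' * (u⁻¹ * b⁻¹)) * b'⁻¹ * u'⁻¹ := by
            rw [hBE b hb u' hu', hBE b⁻¹ (inv_mem hb) u⁻¹ (inv_mem hu)]; group
          _ = u * u' * b * (b' * u⁻¹) * b⁻¹ * b'⁻¹ * u'⁻¹ := by group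
          _ = u * u' * (b * u⁻¹) * b' * b⁻¹ * b'⁻¹ * u'⁻¹ := by
            rw [hBE b' hb' u⁻¹ (inv_mem hu)]; group
          _ = u * u' * u⁻¹ * (b * b' * b⁻¹ * b'⁻¹ * u'⁻¹) := by
            rw [hBE b hb u⁻¹ (inv_mem hu)]; group
          _ = u * u' * u⁻¹ * (u'⁻¹ * (b * b' * b⁻¹ * b'⁻¹)) := by
            rw [hBE _ (mul_mem (mul_mem (mul_mem hb hb') (inv_mem hb)) (inv_mem hb')) u'⁻¹
              (inv_mem hu')]
          _ = u * u' * u⁻¹ * u'⁻¹ * (b * b' * b⁻¹ * b'⁻¹) := by group]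
      exact mul_mem (hEcomm u hu u' hu') (hBcomm b hb b' hb')
    · rintro w ⟨hw, hw'⟩
      obtain ⟨u, hu, b, hb, rfl⟩ := hmem w hw
      replace hw' := Subgroup.mem_centralizer_iff.1 hw'
      have huZ : u ∈ Z := hErad ⟨hu, Subgroup.mem_centralizer_iff.2 fun x hx => by
        have h1 := hw' x (Subgroup.mem_sup_left hx)
        rw [← mul_assoc, mul_assoc u b x, hBE b hb x hx, ← mul_assoc] at h1
        exact mul_right_cancel h1⟩
      have hbc : ∀ x ∈ B, x * b = b * x := fun x hx => by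
        have h1 := hw' x (Subgroup.mem_sup_right hx)
        rw [← mul_assoc, hBE x hx u hu, mul_assoc, mul_assoc] at h1
        exact mul_left_cancel h1
      refine mul_mem huZ ?_
      exact hmax (B ⊓ Subgroup.centralizer (B : Set G)) (inf_le_left.trans (hBC.trans inf_le_left))
        ((hB0n.sup hZn).inf (hB0n.sup hZn).centralizer)
        (fun x hx y hy => (Subgroup.mem_centralizer_iff.1 hy.2 x hx.1))
        (le_inf le_sup_right fun z hz => Subgroup.mem_centralizer_iff.2 fun x hx =>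
          hCZ x (hBC hx) z hz)
        ⟨hb, Subgroup.mem_centralizer_iff.2 hbc⟩
  have hle := hEmax hnew le_sup_left
  exact hB0Z fun b hb => hErad ⟨hle (Subgroup.mem_sup_right (Subgroup.mem_sup_left hb)),
    (hB0D hb).2⟩

variable {F : Type*} [Field F] {A Z E : Subgroup G}

theorem SympData.centralE (h : SympData A Z E) {z : G} (hz : z ∈ Z) {u : G} (hu : u ∈ E) :
    u * z = z * u :=
  (Subgroup.mem_centralizer_iff.1 (h.leC hu).2 z hz).symm

theorem SympData.normal (h : SympData A Z E) : (Z.subgroupOf E).Normal :=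
  ⟨fun z hz u => Subgroup.mem_subgroupOf.2 (h.normZ u (h.leC u.2).1 z hz)⟩

/-- The commutator pairing. -/
noncomputable def SympData.pairing (h : SympData A Z E) (ι : Z →* Fˣ) : E →* E →* Fˣ :=
  MonoidHom.mk' (fun a => MonoidHom.mk'
      (fun b => ι ⟨⁅(a : G), (b : G)⁆, h.comm a a.2 b b.2⟩) fun b c => by
        rw [← map_mul]
        congr 1
        refine Subtype.ext ?_
        show ⁅(a : G), (b : G) * c⁆ = ⁅(a : G), (b : G)⁆ * ⁅(a : G), (c : G)⁆
        have hz := h.centralE (h.comm a a.2 c c.2) b.2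
        calc ⁅(a : G), (b : G) * c⁆
            = ⁅(a : G), (b : G)⁆ * ((b : G) * ⁅(a : G), (c : G)⁆ * (b : G)⁻¹) := by
              simp only [commutatorElement_def]; group
          _ = _ := by rw [hz, mul_inv_cancel_right])
    fun a b => MonoidHom.ext fun c => by
      show ι _ = ι _ * ι _
      rw [← map_mul]
      congr 1
      refine Subtype.ext ?_
      show ⁅(a : G) * b, (c : G)⁆ = ⁅(a : G), (c : G)⁆ * ⁅(b : G), (c : G)⁆
      have hz := h.centralE (h.comm b b.2 c c.2) a.2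
      have hz' := h.centralE (h.comm a a.2 c c.2) (h.le (h.comm b b.2 c c.2))
      calc ⁅(a : G) * b, (c : G)⁆
          = (a : G) * ⁅(b : G), (c : G)⁆ * (a : G)⁻¹ * ⁅(a : G), (c : G)⁆ := by
            simp only [commutatorElement_def]; group
        _ = _ := by rw [hz, mul_inv_cancel_right, hz']

theorem SympData.pairing_eq_one (h : SympData A Z E) {ι : Z →* Fˣ} (hι : Function.Injective ι)
    (a b : E) : h.pairing ι a b = 1 ↔ (a : G) * b = b * a := by
  show ι ⟨⁅(a : G), (b : G)⁆, _⟩ = 1 ↔ _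
  rw [map_eq_one_iff ι hι, ← commutatorElement_eq_one_iff_mul_comm]
  exact Subtype.ext_iff

theorem SympData.ker_pairing (h : SympData A Z E) {ι : Z →* Fˣ} (hι : Function.Injective ι) :
    (h.pairing ι).ker = Z.subgroupOf E := by
  ext a
  rw [MonoidHom.mem_ker, Subgroup.mem_subgroupOf, MonoidHom.ext_iff]
  refine ⟨fun ha => h.rad ⟨a.2, Subgroup.mem_centralizer_iff.2 fun x hx =>
      (((h.pairing_eq_one hι a ⟨x, hx⟩).1 (ha _)).symm)⟩,
    fun ha b => (h.pairing_eq_one hι a b).2 (h.centralE ha b.2).symm⟩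

/-- The index is a square. -/
theorem SympData.exists_relIndex_eq_sq [Finite G] (h : SympData A Z E) {ι : Z →* Fˣ}
    (hι : Function.Injective ι) : ∃ m, Z.relIndex E = m ^ 2 := by
  obtain ⟨m, hm⟩ := FpfModule.exists_index_eq_sq (h.pairing ι)
    fun a => (h.pairing_eq_one hι a a).2 rfl
  exact ⟨m, by rw [Subgroup.relIndex, ← h.ker_pairing hι, hm]⟩

/-- Invariant subgroups between `Z` and `E` are complemented by their centralizers. -/
theorem SympData.sup_centralizer [Finite G] (h : SympData A Z E) {ι : Z →* Fˣ}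
    (hι : Function.Injective ι) {Y : Subgroup G} (hZY : Z ≤ Y) (hYE : Y ≤ E)
    (hrad : Y ⊓ Subgroup.centralizer (Y : Set G) ≤ Z) :
    Y ⊔ (E ⊓ Subgroup.centralizer (Y : Set G)) = E := by
  set P := E ⊓ Subgroup.centralizer (Y : Set G) with hP
  let f : E →* (Y.subgroupOf E) →* Fˣ :=
    MonoidHom.mk' (fun a => (h.pairing ι a).comp (Y.subgroupOf E).subtype) fun a b =>
      MonoidHom.ext fun y => by
        show h.pairing ι (a * b) y = h.pairing ι a y * h.pairing ι b y
        rw [map_mul (h.pairing ι) a b]; rfl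
  have hf : f.ker = P.subgroupOf E := by
    ext a
    rw [MonoidHom.mem_ker, Subgroup.mem_subgroupOf, MonoidHom.ext_iff]
    refine ⟨fun ha => ⟨a.2, Subgroup.mem_centralizer_iff.2 fun x hx =>
      ((h.pairing_eq_one hι a ⟨x, hYE hx⟩).1 (ha ⟨⟨x, hYE hx⟩, hx⟩)).symm⟩,
      fun ha y => (h.pairing_eq_one hι a y.1).2
        (Subgroup.mem_centralizer_iff.1 ha.2 _ y.2).symm⟩
  haveI := h.normal
  let N : Subgroup (Y.subgroupOf E) := (Z.subgroupOf E).subgroupOf (Y.subgroupOf E)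
  haveI : N.Normal := ⟨fun z hz u => (inferInstance : (Z.subgroupOf E).Normal).conj_mem _ hz u⟩
  have h1 : P.relIndex E ≤ Z.relIndex Y := by
    have := FpfModule.index_ker_le f N fun a z hz => by
      rw [MonoidHom.mem_ker]
      exact (h.pairing_eq_one hι a z.1).2 (h.centralE hz a.2)
    rw [hf] at this
    refine this.trans (le_of_eq ?_)
    show N.index = Z.relIndex Y
    rw [show N.index = (Z.subgroupOf E).relIndex (Y.subgroupOf E) from rfl,
      Subgroup.relIndex_subgroupOf hYE]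
  have hPZ : Z ≤ P := le_inf h.le fun z hz =>
    Subgroup.mem_centralizer_iff.2 fun x hx => h.centralE hz (hYE hx)
  have hinf : Y ⊓ P = Z := le_antisymm
    (le_trans (le_inf inf_le_left (inf_le_right.trans inf_le_right)) hrad) (le_inf hZY hPZ)
  have h2 : (Y ⊔ P) ≤ E := sup_le hYE inf_le_left
  refine Subgroup.eq_of_le_of_card_ge h2 ?_
  have hc := card_mul_relIndex' (inf_le_right : Y ⊓ P ≤ P)
  have hle : Nat.card Y * Z.relIndex P ≤ Nat.card (Y ⊔ P : Subgroup G) := by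
    rw [← hinf, Subgroup.inf_relIndex_right]
    refine (Nat.mul_le_mul_left _ ?_).trans (le_of_eq (card_mul_relIndex' le_sup_left))
    exact Subgroup.relIndex_le_of_le_right le_sup_right
      Subgroup.index_ne_zero_of_finite
  have e1 : Nat.card Z * Z.relIndex Y = Nat.card Y := card_mul_relIndex' hZY
  have e2 : Nat.card Z * Z.relIndex P = Nat.card P := card_mul_relIndex' hPZ
  have e3 : Nat.card P * P.relIndex E = Nat.card E := card_mul_relIndex' inf_le_left
  calc Nat.card E = Nat.card P * P.relIndex E := e3.symm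
    _ ≤ Nat.card P * Z.relIndex Y := Nat.mul_le_mul_left _ h1
    _ = Nat.card Y * Z.relIndex P := by rw [← e1, ← e2]; ring
    _ ≤ _ := hle

/-- Elements centralizing `Z` and `E` modulo `Z` lie in `E`. -/
theorem SympData.mem_of_commutator_mem [Finite G] (h : SympData A Z E) {ι : Z →* Fˣ}
    (hι : Function.Injective ι) {a : G} (ha : a ∈ A ⊓ Subgroup.centralizer (Z : Set G))
    (hau : ∀ u ∈ E, ⁅a, u⁆ ∈ Z) : a ∈ E := by
  classical
  haveI := h.normal
  let f : E →* Fˣ := MonoidHom.mk' (fun u => ι ⟨⁅a, (u : G)⁆, hau u u.2⟩) fun b c => by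
    rw [← map_mul]
    congr 1
    refine Subtype.ext ?_
    show ⁅a, (b : G) * c⁆ = ⁅a, (b : G)⁆ * ⁅a, (c : G)⁆
    have hz := h.centralE (hau c c.2) b.2
    calc ⁅a, (b : G) * c⁆ = ⁅a, (b : G)⁆ * ((b : G) * ⁅a, (c : G)⁆ * (b : G)⁻¹) := by
          simp only [commutatorElement_def]; group
      _ = _ := by rw [hz, mul_inv_cancel_right]
  let T := {g : E →* Fˣ // Z.subgroupOf E ≤ g.ker}
  let lift : T → (E ⧸ Z.subgroupOf E →* Fˣ) := fun g => QuotientGroup.lift _ g.1 g.2
  have hlift : Function.Injective lift := fun g g' hg => Subtype.ext (MonoidHom.ext fun u =>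
    DFunLike.congr_fun hg (u : E ⧸ Z.subgroupOf E))
  have hfin : Finite (E ⧸ Z.subgroupOf E →* Fˣ) :=
    ((linearIndependent_monoidHom (E ⧸ Z.subgroupOf E) F).comp
      (fun g : (E ⧸ Z.subgroupOf E) →* Fˣ => (Units.coeHom F).comp g) fun g g' hg =>
      MonoidHom.ext fun x => Units.ext (DFunLike.congr_fun hg x)).finite
  haveI : Finite T := Finite.of_injective _ hlift
  let B : E ⧸ Z.subgroupOf E → T := fun x => ⟨h.pairing ι x.out, fun z hz =>
    (h.pairing_eq_one hι _ z).2 (h.centralE hz x.out.2)⟩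
  have hB : Function.Injective B := fun x y hxy => by
    have h2 : h.pairing ι (x.out⁻¹ * y.out) = 1 := by
      have hxy' : h.pairing ι x.out = h.pairing ι y.out := congrArg Subtype.val hxy
      rw [map_mul, map_inv, hxy']
      exact inv_mul_cancel _
    have h3 : x.out⁻¹ * y.out ∈ Z.subgroupOf E := by
      exact le_of_eq (h.ker_pairing hι) (MonoidHom.mem_ker.2 h2)
    rw [← x.out_eq, ← y.out_eq]
    exact (QuotientGroup.eq.2 h3)
  have hbij := (Nat.bijective_iff_injective_and_card B).2 ⟨hB, le_antisymm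
    (Nat.card_le_card_of_injective B hB)
    ((Nat.card_le_card_of_injective lift hlift).trans (FpfModule.natCard_hom_le _))⟩
  obtain ⟨x, hx⟩ := hbij.2 ⟨f, fun z hz => by
    rw [MonoidHom.mem_ker]
    show ι ⟨⁅a, (z : G)⁆, _⟩ = 1
    rw [map_eq_one_iff ι hι]
    exact Subtype.ext (commutatorElement_eq_one_iff_mul_comm.2
      (Subgroup.mem_centralizer_iff.1 ha.2 _ hz).symm)⟩
  set b : E := x.out
  have hb : ∀ u ∈ E, ⁅(b : G), u⁆ = ⁅a, u⁆ := fun u hu =>
    congrArg Subtype.val (hι (DFunLike.congr_fun (congrArg Subtype.val hx) ⟨u, hu⟩))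
  have hbC := h.leC b.2
  have hab : (b : G)⁻¹ * a ∈ Z := h.cent ⟨(A ⊓ Subgroup.centralizer (Z : Set G)).mul_mem
    ((A ⊓ Subgroup.centralizer (Z : Set G)).inv_mem hbC) ha,
    Subgroup.mem_centralizer_iff.2 fun u hu => by
      have h1 := hb u hu
      simp only [commutatorElement_def, mul_left_inj] at h1
      have h2 : (b : G) * u * (b : G)⁻¹ = a * u * a⁻¹ := h1
      calc u * ((b : G)⁻¹ * a) = (b : G)⁻¹ * ((b : G) * u * (b : G)⁻¹) * a := by group
        _ = (b : G)⁻¹ * a * u := by rw [h2]; group⟩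
  simpa using mul_mem b.2 (h.le hab)

end CfsgLib.RegOrbit
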