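import Cfsg.Agent.RegOrbit.Basic
import Mathlib.Algebra.Field.Basic
import Mathlib.RingTheory.IntegralDomain
import Mathlib.RingTheory.LittleWedderburn
import Mathlib.FieldTheory.Finite.Basic
import Mathlib.Tactic

/-!
# Primitive groups: normalized commutative subrings of endomorphisms are fields
-/

set_option autoImplicit false
set_option linter.style.haveILetI false

namespace CfsgLib.RegOrbit

open Equiv

universe v

variable {V : Type v} [AddCommGroup V]

/-- No nontrivial permuted decomposition. -/
def Prim (A : Subgroup (AutGp V)) : Prop :=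
  ∀ (ι : Type v) (_ : Fintype ι) (U : ι → AddSubgroup V), IsDecomp U →
    ∀ σ : A →* Perm ι,
      (∀ (a : A) (i : ι), ∀ u ∈ U i, ((a : AutGp V) : AddMonoid.End V) u ∈ U (σ a i)) →
      Subsingleton ι

/-- Irreducibility. -/
def Irred (A : Subgroup (AutGp V)) : Prop :=
  ∀ U, Inv A U → U = ⊥ ∨ U = ⊤

/-- A commutative subring normalized by the group. -/
structure NormRing (A : Subgroup (AutGp V)) (K : Subring (AddMonoid.End V)) : Prop where
  comm : ∀ x ∈ K, ∀ y ∈ K, x * y = y * x
  norm : ∀ a ∈ A, ∀ x ∈ K,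
    (a : AddMonoid.End V) * x * ((a⁻¹ : AutGp V) : AddMonoid.End V) ∈ K

theorem conj_apply {a : AutGp V} {x : AddMonoid.End V} (v : V) :
    ((a : AddMonoid.End V) * x * ((a⁻¹ : AutGp V) : AddMonoid.End V)) ((a : AddMonoid.End V) v) =
      (a : AddMonoid.End V) (x v) := by
  show (a : AddMonoid.End V) (x (((a⁻¹ : AutGp V) : AddMonoid.End V) ((a : AddMonoid.End V) v))) = _
  rw [inv_apply']

theorem conj_mul {a : AutGp V} (x y : AddMonoid.End V) :
    (a : AddMonoid.End V) * (x * y) * ((a⁻¹ : AutGp V) : AddMonoid.End V) =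
      ((a : AddMonoid.End V) * x * ((a⁻¹ : AutGp V) : AddMonoid.End V)) *
      ((a : AddMonoid.End V) * y * ((a⁻¹ : AutGp V) : AddMonoid.End V)) := by
  simp only [mul_assoc, Units.inv_mul_cancel_left]

theorem conj_injective {a : AutGp V} {x y : AddMonoid.End V}
    (h : (a : AddMonoid.End V) * x * ((a⁻¹ : AutGp V) : AddMonoid.End V) =
      (a : AddMonoid.End V) * y * ((a⁻¹ : AutGp V) : AddMonoid.End V)) : x = y := by
  have h1 := congrArg (fun z => ((a⁻¹ : AutGp V) : AddMonoid.End V) * z * (a : AddMonoid.End V)) h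
  simpa [mul_assoc] using h1

theorem exists_idempotent_pow {M : Type*} [Monoid M] [Finite M] (x : M) :
    ∃ n, 0 < n ∧ x ^ n * x ^ n = x ^ n := by
  obtain ⟨i, j, hij, h⟩ := Finite.exists_ne_map_eq_of_infinite fun n : ℕ => x ^ n
  wlog hlt : i < j generalizing i j
  · exact this j i hij.symm h.symm (by omega)
  have hper : ∀ k, x ^ (i + k * (j - i)) = x ^ i := by
    intro k
    induction k with
    | zero => simp
    | succ k ih =>
      rw [show i + (k + 1) * (j - i) = (j - i) + (i + k * (j - i)) by ring, pow_add, ih, ← pow_add,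
        show j - i + i = j by omega, h]
  have hn : i ≤ (i + 1) * (j - i) :=
    le_trans (Nat.le_succ i) (Nat.le_mul_of_pos_right _ (by omega))
  refine ⟨(i + 1) * (j - i), Nat.mul_pos (by omega) (by omega), ?_⟩
  set n := (i + 1) * (j - i)
  calc x ^ n * x ^ n = x ^ (n - i) * x ^ (i + (i + 1) * (j - i)) := by
        rw [← pow_add, ← pow_add]; congr 1; omega
    _ = x ^ n := by rw [hper, ← pow_add]; congr 1; omega

variable [Finite V] {A : Subgroup (AutGp V)} {K : Subring (AddMonoid.End V)}

instance instFiniteAddMonoidEnd : Finite (AddMonoid.End V) :=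
  Finite.of_injective (fun f : AddMonoid.End V => (f : V → V)) DFunLike.coe_injective

/-- A primitive group leaves only trivial idempotents. -/
theorem NormRing.idempotent (hK : NormRing A K) (hprim : Prim A) {e : AddMonoid.End V}
    (heK : e ∈ K) (hee : e * e = e) : e = 0 ∨ e = 1 := by
  classical
  let Idem : AddMonoid.End V → Prop := fun f => f ∈ K ∧ f * f = f ∧ f ≠ 0
  let Atom : AddMonoid.End V → Prop := fun f => Idem f ∧ ∀ g, Idem g → g * f = g → g = f
  -- every idempotent lies over an atom
  have hex : ∀ f, Idem f → ∃ g, Atom g ∧ g * f = g := by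
    intro f hf
    obtain ⟨g, ⟨hg, hgf⟩, hmin⟩ := Set.exists_min_image {g | Idem g ∧ g * f = g}
      (fun g => Nat.card {v // g v = v}) (Set.toFinite _) ⟨f, hf, hf.2.1⟩
    refine ⟨g, ⟨hg, fun g' hg' hg'g => ?_⟩, hgf⟩
    have h1 : g' * f = g' := by rw [← hg'g, mul_assoc, hgf, hg'g]
    have hle := hmin g' ⟨hg', h1⟩
    have hsub : ∀ v, g' v = v → g v = v := by
      intro v hv
      have h2 : g * g' = g' := by rw [hK.comm g hg.1 g' hg'.1, hg'g]
      calc g v = g (g' v) := by rw [hv]
        _ = (g * g') v := rfl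
        _ = v := by rw [h2, hv]
    have hbij : Function.Bijective fun v : {v // g' v = v} => (⟨v.1, hsub v v.2⟩ : {v // g v = v}) := by
      have hinj : Function.Injective fun v : {v // g' v = v} =>
          (⟨v.1, hsub v v.2⟩ : {v // g v = v}) := fun a b hab => Subtype.ext (Subtype.mk.inj hab)
      exact (Nat.bijective_iff_injective_and_card _).2
        ⟨hinj, le_antisymm (Nat.card_le_card_of_injective _ hinj) hle⟩
    refine AddMonoidHom.ext fun v => ?_
    obtain ⟨u, hu⟩ := hbij.2 ⟨g v, DFunLike.congr_fun hg.2.1 v⟩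
    calc g' v = (g' * g) v := by rw [hg'g]
      _ = g' (g v) := rfl
      _ = g' u := by rw [show g v = u from (congrArg Subtype.val hu).symm]
      _ = u := u.2
      _ = g v := congrArg Subtype.val hu
  have horth : ∀ f g, Atom f → Atom g → f ≠ g → f * g = 0 := by
    intro f g hf hg hne
    by_contra h0
    have hI : Idem (f * g) := by
      refine ⟨mul_mem hf.1.1 hg.1.1, ?_, h0⟩
      calc f * g * (f * g) = f * (g * f) * g := by simp only [mul_assoc]
        _ = f * (f * g) * g := by rw [hK.comm g hg.1.1 f hf.1.1]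
        _ = (f * f) * (g * g) := by simp only [mul_assoc]
        _ = f * g := by rw [hf.1.2.1, hg.1.2.1]
    refine hne ?_
    rw [← hf.2 (f * g) hI (by rw [hK.comm f hf.1.1 g hg.1.1, mul_assoc, hf.1.2.1]),
      hg.2 (f * g) hI (by rw [mul_assoc, hg.1.2.1])]
  let ι := {f : AddMonoid.End V // Atom f}
  haveI : Fintype ι := Fintype.ofFinite ι
  set s : AddMonoid.End V := ∑ f : ι, (f : AddMonoid.End V) with hs
  have hsK : s ∈ K := sum_mem fun f _ => f.2.1.1
  have hmuls : ∀ f : ι, (f : AddMonoid.End V) * s = f := by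
    intro f
    rw [hs, Finset.mul_sum, Finset.sum_eq_single f]
    · exact f.2.1.2.1
    · exact fun g _ hg => horth _ _ f.2 g.2 fun h => hg (Subtype.ext h.symm)
    · exact fun h => absurd (Finset.mem_univ f) h
  have hs1 : s = 1 := by
    by_contra hne
    have hss : s * s = s := by
      conv_lhs => arg 1; rw [hs]
      rw [Finset.sum_mul]
      exact Finset.sum_congr rfl fun f _ => hmuls f
    have hI : Idem (1 - s) := by
      refine ⟨sub_mem (one_mem K) hsK, ?_, fun h => hne (sub_eq_zero.1 h).symm⟩
      rw [mul_sub, sub_mul, sub_mul, hss]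
      simp
    obtain ⟨g, hg, hgs⟩ := hex _ hI
    refine hg.1.2.2 ?_
    rw [← hgs, mul_sub, mul_one, hmuls ⟨g, hg⟩, sub_self]
  -- the decomposition
  have hU : IsDecomp fun f : ι => (f : AddMonoid.End V).range := by
    refine ⟨fun v => ⟨fun f => (f : AddMonoid.End V) v, fun f => ⟨v, rfl⟩, ?_⟩, ?_, ?_⟩
    · have := DFunLike.congr_fun hs1 v
      rw [hs] at this
      exact ((map_sum (AddMonoidHom.mk' (fun g : AddMonoid.End V => g v) fun _ _ => rfl)
        (fun f : ι => (f : AddMonoid.End V)) Finset.univ).symm.trans this).symm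
    · intro x hx h0 f
      have h1 : ∀ g : ι, (f : AddMonoid.End V) (x g) = if g = f then x g else 0 := by
        intro g
        obtain ⟨u, hu⟩ := hx g
        by_cases hgf : g = f
        · subst hgf
          rw [if_pos rfl, ← hu]
          exact DFunLike.congr_fun g.2.1.2.1 u
        · rw [if_neg hgf, ← hu]
          exact DFunLike.congr_fun (horth _ _ f.2 g.2 fun h => hgf (Subtype.ext h.symm)) u
      have h2 := congrArg (f : AddMonoid.End V) h0
      rw [map_sum, map_zero, Finset.sum_congr rfl fun g _ => h1 g, Finset.sum_ite_eq'] at h2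
      simpa using h2
    · intro f h
      refine f.2.1.2.2 (AddMonoidHom.ext fun v => ?_)
      have : (f : AddMonoid.End V) v ∈ (f : AddMonoid.End V).range := ⟨v, rfl⟩
      rw [h, AddSubgroup.mem_bot] at this
      exact this
  have hconj : ∀ a : A, ∀ f, Atom f →
      Atom (((a : AutGp V) : AddMonoid.End V) * f * (((a⁻¹ : A) : AutGp V) : AddMonoid.End V)) := by
    have hI : ∀ a : A, ∀ f, Idem f →
        Idem (((a : AutGp V) : AddMonoid.End V) * f * (((a⁻¹ : A) : AutGp V) : AddMonoid.End V)) := by
      intro a f hf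
      refine ⟨hK.norm a a.2 f hf.1, ?_, fun h => hf.2.2 ?_⟩
      · rw [Subgroup.coe_inv, ← conj_mul, hf.2.1]
      · refine conj_injective (a := (a : AutGp V)) ?_
        rw [mul_zero, zero_mul]
        exact h
    intro a f hf
    refine ⟨hI a f hf.1, fun g hg hgf => ?_⟩
    have h1 := hI a⁻¹ g hg
    rw [inv_inv] at h1
    have h2 := hf.2 _ h1 (by
      conv_rhs => rw [← hgf]
      simp only [Subgroup.coe_inv, mul_assoc, Units.inv_mul, mul_one])
    rw [← h2]
    simp only [Subgroup.coe_inv, mul_assoc, Units.mul_inv_cancel_left, Units.mul_inv, mul_one]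
  let τ : A → ι → ι := fun a f => ⟨_, hconj a f f.2⟩
  have hτ1 : ∀ f, τ 1 f = f := fun f => Subtype.ext (by simp [τ])
  have hτm : ∀ a b f, τ (a * b) f = τ a (τ b f) := fun a b f => Subtype.ext (by
    simp [τ, mul_assoc, mul_inv_rev])
  let σ : A →* Perm ι :=
    { toFun := fun a => ⟨τ a, τ a⁻¹,
        fun f => by rw [← hτm, inv_mul_cancel, hτ1],
        fun f => by rw [← hτm, mul_inv_cancel, hτ1]⟩
      map_one' := Equiv.ext hτ1
      map_mul' := fun a b => Equiv.ext (hτm a b) }
  have hsub : Subsingleton ι := hprim ι inferInstance _ hU σ (by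
    rintro a f _ ⟨u, rfl⟩
    exact ⟨((a : AutGp V) : AddMonoid.End V) u, conj_apply u⟩)
  by_cases he0 : e = 0
  · exact Or.inl he0
  obtain ⟨g, hg, hge⟩ := hex e ⟨heK, hee, he0⟩
  have hg1 : g = 1 := by
    rw [← hs1, hs, Finset.sum_eq_single (⟨g, hg⟩ : ι)]
    · exact fun f _ hf => absurd (Subsingleton.elim _ _) hf
    · exact fun h => absurd (Finset.mem_univ _) h
  rw [hg1, one_mul] at hge
  exact Or.inr hge

/-- In an irreducible group such a ring has no nilpotents. -/
theorem NormRing.eq_zero_of_pow (hK : NormRing A K) (hirr : Irred A) [Nontrivial V]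
    {x : AddMonoid.End V} (hxK : x ∈ K) {n : ℕ} (hx : x ^ n = 0) : x = 0 := by
  let W : AddSubgroup V :=
    { carrier := {v | ∀ y ∈ K, (∃ m : ℕ, y ^ m = 0) → y v = 0}
      zero_mem' := fun y _ _ => map_zero y
      add_mem' := fun {a b} ha hb y hy hm => by rw [map_add, ha y hy hm, hb y hy hm, add_zero]
      neg_mem' := fun {a} ha y hy hm => by rw [map_neg, ha y hy hm, neg_zero] }
  have hW : Inv A W := by
    intro a ha v hv y hy ⟨m, hm⟩
    have h1 := hK.norm a⁻¹ (inv_mem ha) y hy
    rw [inv_inv] at h1
    set y' := ((a⁻¹ : AutGp V) : AddMonoid.End V) * y * (a : AddMonoid.End V) with hy'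
    have h2 : y' ^ m = 0 := by
      have hp : ∀ k, y' ^ k =
          ((a⁻¹ : AutGp V) : AddMonoid.End V) * y ^ k * (a : AddMonoid.End V) := by
        intro k
        induction k with
        | zero => simp
        | succ k ih => rw [pow_succ, ih, hy', pow_succ]; simp [mul_assoc]
      rw [hp, hm, mul_zero, zero_mul]
    have h3 := hv y' h1 ⟨m, h2⟩
    have h4 := congrArg (a : AddMonoid.End V) h3
    rw [map_zero] at h4
    rw [← h4]
    exact (apply_inv' a _).symm
  rcases hirr W hW with h | h
  · exfalso
    -- a nonzero vector with smallest orbit under `K`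
    obtain ⟨v, hv, hmin⟩ := Set.exists_min_image {v : V | v ≠ 0}
      (fun v => Nat.card (Set.range fun k : K => (k : AddMonoid.End V) v)) (Set.toFinite _)
      (exists_ne 0)
    refine hv ?_
    have : v ∈ W := by
      intro y hy ⟨m, hm⟩
      by_contra hyv
      have hsub : (Set.range fun k : K => (k : AddMonoid.End V) (y v)) ⊆
          Set.range fun k : K => (k : AddMonoid.End V) v := by
        rintro _ ⟨k, rfl⟩
        exact ⟨⟨k * y, mul_mem k.2 hy⟩, rfl⟩
      have heq := Set.eq_of_subset_of_ncard_le hsub (by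
        rw [← Nat.card_coe_set_eq, ← Nat.card_coe_set_eq]
        exact hmin (y v) hyv) (Set.toFinite _)
      obtain ⟨k, hk⟩ : v ∈ Set.range fun k : K => (k : AddMonoid.End V) (y v) := by
        rw [heq]; exact ⟨1, rfl⟩
      have hfix : ∀ i : ℕ, (((k : AddMonoid.End V) * y) ^ i) v = v := by
        intro i
        induction i with
        | zero => rfl
        | succ i ih =>
          rw [pow_succ]
          show (((k : AddMonoid.End V) * y) ^ i) ((k : AddMonoid.End V) (y v)) = v
          simp only at hk
          rw [hk, ih]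
      have hc : Commute (k : AddMonoid.End V) y := hK.comm _ k.2 _ hy
      have h1 := hfix m
      rw [hc.mul_pow, hm, mul_zero] at h1
      exact hv h1.symm
    rw [h, AddSubgroup.mem_bot] at this
    exact this
  · exact AddMonoidHom.ext fun v =>
      (show v ∈ W by rw [h]; exact AddSubgroup.mem_top v) x hxK ⟨n, hx⟩

/-- In a primitive irreducible group such a ring is a field: nonzero elements are injective. -/
theorem NormRing.injective (hK : NormRing A K) (hprim : Prim A) (hirr : Irred A) [Nontrivial V]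
    {x : AddMonoid.End V} (hxK : x ∈ K) (hx0 : x ≠ 0) : Function.Injective x := by
  obtain ⟨n, hn, hidem⟩ := exists_idempotent_pow x
  rcases hK.idempotent hprim (pow_mem hxK n) hidem with h | h
  · exact absurd (hK.eq_zero_of_pow hirr hxK h) hx0
  · obtain ⟨m, rfl⟩ := Nat.exists_eq_succ_of_ne_zero hn.ne'
    intro u v huv
    calc u = (x ^ m * x) u := by rw [← pow_succ, h]; rfl
      _ = (x ^ m) (x u) := rfl
      _ = (x ^ m) (x v) := by rw [huv]
      _ = (x ^ m * x) v := rfl
      _ = v := by rw [← pow_succ, h]; rfl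

omit [Finite V] in
/-- The subring generated by an abelian normal subgroup. -/
theorem normRing_closure (Z : Subgroup (AutGp V))
    (hZ : ∀ x ∈ Z, ∀ y ∈ Z, x * y = y * x) (hn : ∀ a ∈ A, ∀ z ∈ Z, a * z * a⁻¹ ∈ Z) :
    NormRing A (Subring.closure (((↑) : AutGp V → AddMonoid.End V) '' (Z : Set (AutGp V)))) := by
  set S := ((↑) : AutGp V → AddMonoid.End V) '' (Z : Set (AutGp V))
  refine ⟨fun x hx y hy => ?_, fun a ha x hx => ?_⟩
  · have hS : ∀ s ∈ S, ∀ t ∈ S, s * t = t * s := by
      rintro _ ⟨s, hs, rfl⟩ _ ⟨t, ht, rfl⟩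
      exact congrArg Units.val (hZ s hs t ht)
    have h1 : Subring.closure S ≤ Subring.centralizer (Subring.closure S : Set (AddMonoid.End V)) := by
      rw [Subring.closure_le]
      intro s hs
      rw [SetLike.mem_coe, Subring.mem_centralizer_iff]
      intro g hg
      have h2 : Subring.closure S ≤ Subring.centralizer ({s} : Set (AddMonoid.End V)) := by
        rw [Subring.closure_le]
        intro t ht
        rw [SetLike.mem_coe, Subring.mem_centralizer_iff]
        intro u hu
        rw [Set.mem_singleton_iff] at hu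
        rw [hu]
        exact hS s hs t ht
      exact (Subring.mem_centralizer_iff.1 (h2 hg) s rfl).symm
    exact (Subring.mem_centralizer_iff.1 (h1 hx) y hy).symm
  · induction hx using Subring.closure_induction with
    | mem x hx =>
      obtain ⟨z, hz, rfl⟩ := hx
      exact Subring.subset_closure ⟨_, hn a ha z hz, by push_cast; rfl⟩
    | zero => rw [mul_zero, zero_mul]; exact zero_mem _
    | one => rw [mul_one, ← Units.val_mul, mul_inv_cancel]; exact one_mem _
    | add x y _ _ hx hy => rw [mul_add, add_mul]; exact add_mem hx hy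
    | neg x _ hx => rw [mul_neg, neg_mul]; exact neg_mem hx
    | mul x y _ _ hx hy => rw [conj_mul]; exact mul_mem hx hy

end CfsgLib.RegOrbit
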