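import Cfsg.Agent.RegOrbit.Small
import Cfsg.Agent.Solvable.Basic
import Mathlib.GroupTheory.Perm.Cycle.Basic
import Mathlib.GroupTheory.Transfer
import Mathlib.Tactic

/-!
# Gluck: a solvable group of odd order has a regular orbit on the power set

For a group of odd order of permutations some subset is fixed by no nontrivial element.
-/

set_option autoImplicit false
set_option linter.style.haveILetI false
set_option maxHeartbeats 800000

namespace CfsgLib.RegOrbit

open Equiv Subgroup

universe w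

/-- The statement to be proved for a set of points. -/
def SubsetBase {Ω : Type w} (G : Subgroup (Perm Ω)) : Prop :=
  ∃ S : Set Ω, ∀ g ∈ G, (∀ x, g x ∈ S ↔ x ∈ S) → g = 1

theorem perm_inv_apply {Ω : Type*} (e : Perm Ω) (x : Ω) : e⁻¹ (e x) = x := e.symm_apply_apply x

theorem perm_apply_inv {Ω : Type*} (e : Perm Ω) (x : Ω) : e (e⁻¹ x) = x := e.apply_symm_apply x

/-- An element of odd order whose square is trivial on a set is trivial on it. -/
theorem fix_of_sq_fix {Ω : Type*} {g : Perm Ω} {k : ℕ} (hg : g ^ (2 * k + 1) = 1) {x : Ω}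
    (hx : g (g x) = x) : g x = x := by
  have hk : ∀ i : ℕ, (g ^ (2 * i)) x = x := by
    intro i
    induction i with
    | zero => simp
    | succ i ih =>
      rw [show 2 * (i + 1) = 2 * i + 1 + 1 by ring, pow_succ, pow_succ, Perm.mul_apply,
        Perm.mul_apply, hx, ih]
  have h1 : (g ^ (2 * k + 1)) x = x := by rw [hg]; rfl
  rw [pow_succ', Perm.mul_apply, hk] at h1
  exact h1

theorem exists_pow_two_mul_add_one {G : Type*} [Group G] {A : Subgroup G}
    (hodd : Odd (Nat.card A)) {g : G} (hg : g ∈ A) : ∃ k : ℕ, g ^ (2 * k + 1) = 1 := by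
  obtain ⟨k, hk⟩ := hodd
  refine ⟨k, ?_⟩
  have h := pow_card_eq_one' (x := (⟨g, hg⟩ : A))
  rw [hk] at h
  exact congrArg Subtype.val h

/-- Colouring along an equivariant map. -/
theorem subsetBase_of_map {Ω B : Type w} [Finite Ω] [Finite B] {G : Subgroup (Perm Ω)}
    (hodd : Odd (Nat.card G)) (π : Ω → B) (hπ : Function.Surjective π) (τ : G →* Perm B)
    (hτ : ∀ (g : G) x, π ((g : Perm Ω) x) = τ g (π x)) (hB : SubsetBase τ.range)
    (hF : ∀ b : B, ∃ S : Set Ω, ∀ g : G, τ g b = b →
      (∀ x, π x = b → ((g : Perm Ω) x ∈ S ↔ x ∈ S)) → ∀ x, π x = b → (g : Perm Ω) x = x) :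
    SubsetBase G := by
  classical
  obtain ⟨T, hT⟩ := hB
  choose S hS using hF
  let rel : Setoid B :=
    { r := fun b c => ∃ g : G, τ g b = c
      iseqv := ⟨fun b => ⟨1, by rw [map_one]; rfl⟩, fun {b c} => fun ⟨g, hg⟩ =>
        ⟨g⁻¹, by rw [map_inv, ← hg]; exact perm_inv_apply _ _⟩,
        fun {b c d} => fun ⟨g, hg⟩ ⟨h, hh⟩ => ⟨h * g, by rw [map_mul, Perm.mul_apply, hg, hh]⟩⟩ }
  let r : B → B := fun b => (Quotient.mk rel b).out
  have hr : ∀ b, ∃ g : G, τ g (r b) = b := fun b => Quotient.mk_out (s := rel) b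
  choose t ht using hr
  refine ⟨{x | ((t (π x) : Perm Ω)⁻¹ x ∈ S (r (π x)) ↔ π x ∈ T)}, fun g hg hgS => ?_⟩
  set γ : G := ⟨g, hg⟩ with hγ
  have hfib : ∀ b : B, r (τ γ b) = r b ∧ ∀ x, π x = r b →
      π ((((t (τ γ b))⁻¹ * γ * t b : G) : Perm Ω) x) = r b := by
    intro b
    have h1 : r (τ γ b) = r b := congrArg Quotient.out (Quotient.sound ⟨γ⁻¹, by
      rw [map_inv]; exact perm_inv_apply _ _⟩)
    refine ⟨h1, fun x hx => ?_⟩
    rw [hτ, hx, map_mul, map_mul, Perm.mul_apply, Perm.mul_apply, ht b, map_inv,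
      Perm.inv_eq_iff_eq, ← h1, ht]
  -- the colour of a fibre
  have hcol : ∀ b : B, ∀ x, π x = r b →
      (((((t (τ γ b))⁻¹ * γ * t b : G) : Perm Ω) x ∈ S (r b) ↔ τ γ b ∈ T) ↔
        (x ∈ S (r b) ↔ b ∈ T)) := by
    intro b x hx
    have h1 := hgS ((t b : Perm Ω) x)
    have hπ1 : π ((t b : Perm Ω) x) = b := by rw [hτ, hx, ht]
    have hπ2 : π (g ((t b : Perm Ω) x)) = τ γ b := by rw [hτ γ, hπ1]
    simp only [Set.mem_ofPred_eq, hπ1, hπ2, (hfib b).1, perm_inv_apply] at h1
    exact h1
  have hTfix : ∀ b, τ γ b ∈ T ↔ b ∈ T := by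
    intro b
    by_contra hne
    set h : G := (t (τ γ b))⁻¹ * γ * t b with hh
    have hflip : ∀ x, π x = r b → ((h : Perm Ω) x ∈ S (r b) ↔ ¬ x ∈ S (r b)) := by
      intro x hx
      have := hcol b x hx
      tauto
    obtain ⟨x, hx⟩ := hπ (r b)
    have hrb : τ h (r b) = r b := by rw [← hx, ← hτ, (hfib b).2 x hx, hx]
    have hrb2 : τ (h * h) (r b) = r b := by rw [map_mul, Perm.mul_apply, hrb, hrb]
    have h2 := hS (r b) (h * h) hrb2 (fun y hy => by
      rw [Subgroup.coe_mul, Perm.mul_apply, hflip _ ((hfib b).2 y hy), hflip y hy, not_not])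
    obtain ⟨k, hk⟩ := exists_pow_two_mul_add_one hodd h.2
    have h3 := hflip x hx
    rw [fix_of_sq_fix hk (h2 x hx)] at h3
    exact iff_not_self h3
  have hτ1 : τ γ = 1 := hT (τ γ) ⟨γ, rfl⟩ hTfix
  refine Equiv.ext fun y => ?_
  set b := π y with hb
  have hb' : τ γ b = b := by rw [hτ1]; rfl
  have h1 := hfib b
  have h2 := hcol b
  rw [hb'] at h1 h2
  set h : G := (t b)⁻¹ * γ * t b with hh
  set x := (t b : Perm Ω)⁻¹ y with hx
  have hxr : π x = r b := by
    rw [hx, ← Subgroup.coe_inv, hτ, map_inv, Perm.inv_eq_iff_eq, ht]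
  have h3 := hS (r b) h (by rw [← hxr, ← hτ, h1.2 x hxr, hxr])
    (fun z hz => by have := h2 z hz; tauto) x hxr
  rw [hh, Subgroup.coe_mul, Subgroup.coe_mul, Subgroup.coe_inv, Perm.mul_apply, Perm.mul_apply,
    Perm.inv_eq_iff_eq, hx, perm_apply_inv] at h3
  exact h3

/-- The subsets invariant under an element are few. -/
theorem card_invariant_subsets_le {Ω : Type*} [Finite Ω] {g : Perm Ω} {k : ℕ}
    (hg : g ^ (2 * k + 1) = 1) :
    ∃ c : ℕ, Nat.card {S : Set Ω // ∀ x, g x ∈ S ↔ x ∈ S} ≤ 2 ^ c ∧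
      3 * c ≤ Nat.card Ω + 2 * Nat.card {x : Ω // g x = x} := by
  classical
  haveI := Fintype.ofFinite Ω
  let Q := Quotient (Perm.SameCycle.setoid g)
  let mk : Ω → Q := Quotient.mk (Perm.SameCycle.setoid g)
  have hmk : ∀ x, mk (g x) = mk x := fun x => Quotient.sound
    (Perm.sameCycle_apply_left.2 (Perm.SameCycle.refl g x))
  refine ⟨Nat.card Q, ?_, ?_⟩
  · have hS : ∀ S : {S : Set Ω // ∀ x, g x ∈ S ↔ x ∈ S}, ∀ x y, g.SameCycle x y →
        (x ∈ (S : Set Ω) ↔ y ∈ (S : Set Ω)) := by
      intro S x y hxy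
      obtain ⟨i, hi⟩ := hxy.exists_nat_pow_eq
      subst hi
      induction i with
      | zero => simp
      | succ i ih => rw [pow_succ', Perm.mul_apply, S.2]; exact ih ⟨i, by simp⟩
    have hinj : Function.Injective fun S : {S : Set Ω // ∀ x, g x ∈ S ↔ x ∈ S} =>
        mk '' (S : Set Ω) := by
      intro S S' h
      refine Subtype.ext (Set.ext fun x => ?_)
      have hx : ∀ S : {S : Set Ω // ∀ x, g x ∈ S ↔ x ∈ S},
          (mk x ∈ mk '' (S : Set Ω) ↔ x ∈ (S : Set Ω)) := fun S =>
        ⟨fun ⟨y, hy, hyx⟩ => (hS S y x (Quotient.exact hyx)).1 hy, fun hx => ⟨x, hx, rfl⟩⟩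
      simp only at h
      rw [← hx S, h, hx S']
    refine (Nat.card_le_card_of_injective _ hinj).trans (le_of_eq ?_)
    rw [Nat.card_eq_fintype_card, Fintype.card_set, ← Nat.card_eq_fintype_card]
  · rw [Nat.card_eq_fintype_card, Nat.card_eq_fintype_card, Nat.card_eq_fintype_card,
      Fintype.card_subtype, ← Finset.card_univ (α := Ω)]
    rw [Finset.card_eq_sum_card_fiberwise (f := mk) (t := Finset.univ) (fun x _ => Finset.mem_univ _),
      Finset.card_eq_sum_card_fiberwise (f := mk) (t := Finset.univ) (s := Finset.univ.filter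
        fun x => g x = x) (fun x _ => Finset.mem_univ _), Finset.mul_sum, ← Finset.sum_add_distrib,
      ← Finset.card_univ (α := Q), mul_comm, ← smul_eq_mul, ← Finset.sum_const]
    refine Finset.sum_le_sum fun q _ => ?_
    obtain ⟨x, rfl⟩ : ∃ x, mk x = q := Quotient.exists_rep q
    by_cases hx : g x = x
    · have h1 : 1 ≤ (Finset.filter (fun y => mk y = mk x) Finset.univ).card :=
        Finset.card_pos.2 ⟨x, by simp⟩
      have h2 : 1 ≤ (Finset.filter (fun y => mk y = mk x)
          (Finset.univ.filter fun y => g y = y)).card :=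
        Finset.card_pos.2 ⟨x, by simp [hx]⟩
      omega
    · have hxx : g (g x) ≠ x := fun h => hx (fix_of_sq_fix hg h)
      have hxx' : g (g x) ≠ g x := fun h => hx (g.injective h)
      have h1 : ({x, g x, g (g x)} : Finset Ω).card = 3 := by
        rw [Finset.card_insert_of_notMem (by simp [Ne.symm hx, Ne.symm hxx]),
          Finset.card_insert_of_notMem (by simp [Ne.symm hxx']), Finset.card_singleton]
      have h2 : ({x, g x, g (g x)} : Finset Ω) ⊆ Finset.univ.filter fun y => mk y = mk x := by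
        intro y hy
        simp only [Finset.mem_insert, Finset.mem_singleton] at hy
        rcases hy with rfl | rfl | rfl <;> simp [hmk]
      have h3 := Finset.card_le_card h2
      omega

/-! ### Arithmetic -/

theorem pow_le_two_pow_prime {n : ℕ} (hn : 5 ≤ n) : n ^ 6 ≤ 64 * 2 ^ (2 * n - 2) := by
  induction n, hn using Nat.le_induction with
  | base => norm_num
  | succ n hn ih =>
    rw [show 2 * (n + 1) - 2 = 2 * n - 2 + 2 by omega, pow_add, ← mul_assoc]
    refine le_trans ?_ (Nat.mul_le_mul_right _ ih)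
    have h1 : 5 * (n + 1) ≤ 6 * n := by omega
    have h2 : (5 * (n + 1)) ^ 6 ≤ (6 * n) ^ 6 := Nat.pow_le_pow_left h1 6
    rw [mul_pow, mul_pow] at h2
    omega

theorem sq_le_two_pow {r : ℕ} (hr : 4 ≤ r) : r ^ 2 ≤ 2 ^ r := by
  induction r, hr using Nat.le_induction with
  | base => norm_num
  | succ r hr ih => rw [pow_succ 2 r]; nlinarith

/-- The inequality for the affine case. -/
theorem affine_bound {r d : ℕ} (hr : r.Prime) (hr2 : r ≠ 2) (hd : 2 ≤ d)
    (hne : ¬ (r = 3 ∧ d ≤ 3)) (hne5 : ¬ (r = 5 ∧ d = 2)) {c : ℕ} (hc : 9 * c ≤ 5 * r ^ d) :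
    r ^ (d * (d + 1)) * 2 ^ c ≤ 2 ^ (r ^ d + 1) := by
  have h3 : 3 ≤ r := by have := hr.two_le; omega
  -- pass to eighteenth powers
  rw [← Nat.pow_le_pow_iff_left (n := 18) (by norm_num)]
  rw [mul_pow, ← pow_mul, ← pow_mul, ← pow_mul]
  suffices h : ∃ m : ℕ, r ^ (d * (d + 1) * 18) ≤ 2 ^ m ∧ m ≤ 8 * r ^ d by
    obtain ⟨m, hm, hm'⟩ := h
    calc r ^ (d * (d + 1) * 18) * 2 ^ (c * 18) ≤ 2 ^ m * 2 ^ (c * 18) :=
          Nat.mul_le_mul_right _ hm
      _ = 2 ^ (m + c * 18) := (pow_add ..).symm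
      _ ≤ 2 ^ ((r ^ d + 1) * 18) := Nat.pow_le_pow_right (by norm_num) (by omega)
  rcases Nat.lt_or_ge r 4 with h4 | h4
  · obtain rfl : r = 3 := by omega
    have hd4 : 4 ≤ d := by omega
    -- `3 ^ 5 ≤ 2 ^ 8`
    refine ⟨(d * (d + 1) * 18 + 4) / 5 * 8, ?_, ?_⟩
    · calc 3 ^ (d * (d + 1) * 18) ≤ 3 ^ (5 * ((d * (d + 1) * 18 + 4) / 5)) :=
            Nat.pow_le_pow_right (by norm_num) (by omega)
        _ ≤ (2 ^ 8) ^ ((d * (d + 1) * 18 + 4) / 5) := by
            rw [pow_mul]; exact Nat.pow_le_pow_left (by norm_num) _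
        _ = _ := by rw [← pow_mul, mul_comm]
    · have key : d * (d + 1) * 18 + 4 ≤ 5 * 3 ^ d := by
        clear hne hne5 hc hd h3
        induction d, hd4 using Nat.le_induction with
        | base => norm_num
        | succ d hd ih => rw [pow_succ]; nlinarith
      omega
  · have h5 : 5 ≤ r := by
      rcases Nat.lt_or_ge r 5 with h | h
      · obtain rfl : r = 4 := by omega
        norm_num at hr
      · exact h
    refine ⟨9 * (d * (d + 1)) * r, ?_, ?_⟩
    · rw [show d * (d + 1) * 18 = 2 * (9 * (d * (d + 1))) by ring, pow_mul,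
        mul_comm (9 * (d * (d + 1))) r, pow_mul (2 : ℕ)]
      exact Nat.pow_le_pow_left (sq_le_two_pow h4) _
    · rcases Nat.lt_or_ge d 3 with h | h
      · obtain rfl : d = 2 := by omega
        have : r ≠ 6 := by rintro rfl; norm_num at hr
        have h7 : 7 ≤ r := by omega
        have := Nat.mul_le_mul_left r h7
        nlinarith
      · have key : 9 * (d * (d + 1)) * r ≤ 8 * r ^ d := by
          clear hne hne5 hc hd h3
          induction d, h using Nat.le_induction with
          | base => nlinarith [Nat.mul_le_mul h5 h5]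
          | succ d hd ih =>
            rw [pow_succ]
            nlinarith [Nat.mul_le_mul_right (d * (d + 1) * r) h5, mul_pos (show 0 < d by omega) (show 0 < r by omega)]
        exact key

/-! ### The regular affine case -/

/-- A union bound for subsets. -/
theorem exists_subset_of_count {Ω : Type w} [Finite Ω] {G : Subgroup (Perm Ω)}
    (hodd : Odd (Nat.card G)) {c m : ℕ} (hm : Nat.card G ≤ m)
    (hc : ∀ g ∈ G, g ≠ 1 → Nat.card {S : Set Ω // ∀ x, g x ∈ S ↔ x ∈ S} ≤ 2 ^ c)
    (hlt : m * 2 ^ c ≤ 2 ^ (Nat.card Ω + 1)) : SubsetBase G := by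
  classical
  haveI := Fintype.ofFinite Ω
  by_contra hno
  unfold SubsetBase at hno
  push Not at hno
  -- every subset is fixed by two nontrivial elements
  let P : {g : G // g ≠ 1} → Finset (Set Ω) := fun g =>
    Finset.univ.filter fun S => ∀ x, ((g : G) : Perm Ω) x ∈ S ↔ x ∈ S
  have hcov : ∀ S : Set Ω, 2 ≤ (Finset.univ.filter fun g : {g : G // g ≠ 1} => S ∈ P g).card := by
    intro S
    obtain ⟨g, hg, hgS, hg1⟩ := hno S
    obtain ⟨k, hk⟩ := exists_pow_two_mul_add_one hodd hg
    have hne : (⟨g, hg⟩ : G) ≠ 1 := fun h => hg1 (congrArg Subtype.val h)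
    have hne' : (⟨g, hg⟩ : G)⁻¹ ≠ 1 := fun h => hne (inv_eq_one.1 h)
    have hdiff : (⟨_, hne⟩ : {g : G // g ≠ 1}) ≠ ⟨_, hne'⟩ := by
      intro h
      have h1 : g = g⁻¹ := congrArg (fun g : {g : G // g ≠ 1} => ((g : G) : Perm Ω)) h
      refine hg1 ?_
      have h2 : g * g = 1 := by rw [mul_eq_one_iff_eq_inv]; exact h1
      rwa [pow_succ, pow_mul, sq, h2, one_pow, one_mul] at hk
    refine le_trans (le_of_eq (Finset.card_pair hdiff).symm) (Finset.card_le_card ?_)
    intro z hz
    simp only [Finset.mem_insert, Finset.mem_singleton] at hz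
    rcases hz with rfl | rfl
    · simpa [P] using hgS
    · simp only [P, Finset.mem_filter, Finset.mem_univ, true_and, Subgroup.coe_inv]
      intro x
      rw [← hgS (g⁻¹ x), perm_apply_inv]
  have h1 : ∑ g : {g : G // g ≠ 1}, (P g).card =
      ∑ S : Set Ω, (Finset.univ.filter fun g : {g : G // g ≠ 1} => S ∈ P g).card := by
    simp only [Finset.card_filter]
    rw [Finset.sum_comm]
    refine Finset.sum_congr rfl fun g _ => ?_
    rw [← Finset.sum_filter, ← Finset.card_eq_sum_ones]
    congr 1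
    ext S
    simp
  have h2 : 2 * 2 ^ Nat.card Ω ≤ ∑ g : {g : G // g ≠ 1}, (P g).card := by
    rw [h1]
    refine le_trans (le_of_eq ?_) (Finset.sum_le_sum (f := fun _ => 2) fun S _ => hcov S)
    rw [Finset.sum_const, Finset.card_univ, smul_eq_mul, Fintype.card_set,
      ← Nat.card_eq_fintype_card, mul_comm]
  have h3 : ∑ g : {g : G // g ≠ 1}, (P g).card ≤ (Nat.card G - 1) * 2 ^ c := by
    refine (Finset.sum_le_card_nsmul _ _ (2 ^ c) fun g _ => ?_).trans (le_of_eq ?_)
    · have := hc _ (g : G).2 fun h => g.2 (Subtype.ext h)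
      rw [Nat.card_eq_fintype_card, Fintype.card_subtype] at this
      exact this
    · rw [Finset.card_univ, smul_eq_mul]
      congr 1
      rw [Fintype.card_subtype_compl, Nat.card_eq_fintype_card]
      simp
  have h4 : (Nat.card G - 1) * 2 ^ c + 2 ^ c ≤ m * 2 ^ c := by
    rw [← Nat.succ_mul, show (Nat.card G - 1).succ = Nat.card G by
      have := Nat.card_pos (α := G); omega]
    exact Nat.mul_le_mul_right _ hm
  have h5 : 0 < 2 ^ c := pow_pos (by norm_num) c
  rw [pow_succ, mul_comm (2 ^ Nat.card Ω)] at hlt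
  omega

/-- A group of order 351 has a nontrivial normal 3-subgroup. -/
theorem card_ne_351 {H : Type*} [Group H] [Finite H]
    (htriv : ∀ R : Subgroup H, R.Normal → IsPGroup 3 R → R = ⊥) : Nat.card H ≠ 351 := by
  intro h351'
  haveI : Fact (Nat.Prime 13) := ⟨by norm_num⟩
  -- Sylow 13-subgroup is normal
  obtain ⟨P⟩ := (inferInstance : Nonempty (Sylow 13 H))
  have hPc : Nat.card P = 13 := by
    rw [P.card_eq_multiplicity, h351', show (351 : ℕ) = 13 * 27 by norm_num,
      Nat.factorization_mul_apply_of_coprime (by norm_num),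
      Nat.Prime.factorization_self (by norm_num),
      Nat.factorization_eq_zero_of_not_dvd (by norm_num)]
    norm_num
  have hidx : (P : Subgroup H).index = 27 := by
    have := (P : Subgroup H).card_mul_index
    rw [hPc, h351'] at this
    omega
  have hdvd := P.card_dvd_index
  rw [hidx] at hdvd
  have hmod := card_sylow_modEq_one 13 H
  have hcases : Nat.card (Sylow 13 H) = 1 ∨ Nat.card (Sylow 13 H) = 27 := by
    obtain ⟨i, hi, hi'⟩ := (Nat.dvd_prime_pow Nat.prime_three).1
      (show Nat.card (Sylow 13 H) ∣ 3 ^ 3 by simpa using hdvd)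
    interval_cases i <;> simp_all [Nat.ModEq]
  haveI : Fact (Nat.Prime 3) := ⟨Nat.prime_three⟩
  obtain ⟨Q⟩ := (inferInstance : Nonempty (Sylow 3 H))
  have hQc : Nat.card Q = 27 := by
    rw [Q.card_eq_multiplicity, h351', show (351 : ℕ) = 3 ^ 3 * 13 by norm_num,
      Nat.factorization_mul_apply_of_coprime (by norm_num),
      Nat.Prime.factorization_pow Nat.prime_three,
      Nat.factorization_eq_zero_of_not_dvd (by norm_num)]
    simp
  rcases hcases with h1 | h27
  · -- `P` normal; the kernel of `Q` acting on it is normal in `H`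
    haveI : Subsingleton (Sylow 13 H) := (Nat.card_eq_one_iff_unique.1 h1).1
    haveI hPn : (P : Subgroup H).Normal := P.normal_of_subsingleton
    haveI : IsCyclic P := isCyclic_of_prime_card hPc
    let ψ : (Q : Subgroup H) →* MulAut (P : Subgroup H) :=
      (MulAut.conjNormal (H := (P : Subgroup H))).comp (Q : Subgroup H).subtype
    have hrange : Nat.card ψ.range ∣ 3 := by
      have ha : Nat.card ψ.range ∣ 27 := hQc ▸ Subgroup.card_range_dvd ψ
      have hb : Nat.card ψ.range ∣ 12 := by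
        have h := Subgroup.card_subgroup_dvd_card ψ.range
        rwa [IsCyclic.card_mulAut, hPc, Nat.totient_prime (by norm_num)] at h
      simpa using Nat.dvd_gcd ha hb
    let R : Subgroup H := ψ.ker.map (Q : Subgroup H).subtype
    have hRQ : R ≤ (Q : Subgroup H) := map_subtype_le _
    have hRP : (P : Subgroup H) ≤ normalizer (R : Set H) := by
      refine le_trans ?_ (centralizer_le_normalizer _)
      rw [le_centralizer_iff]
      rintro _ ⟨q, hq, rfl⟩
      rw [mem_centralizer_iff]
      intro p hp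
      have h := congrArg Subtype.val (DFunLike.congr_fun (MonoidHom.mem_ker.1 hq)
        (⟨p, hp⟩ : (P : Subgroup H)))
      exact (mul_inv_eq_iff_eq_mul.1 h).symm
    have hQR : (Q : Subgroup H) ≤ normalizer (R : Set H) := fun q hq =>
      le_normalizer_map (Q : Subgroup H).subtype
        ⟨⟨q, hq⟩, by rw [Subgroup.normalizer_eq_top]; exact mem_top _, rfl⟩
    have htop : (P : Subgroup H) ⊔ (Q : Subgroup H) = ⊤ := by
      refine Subgroup.eq_top_of_card_eq _ (Nat.dvd_antisymm
        (Subgroup.card_subgroup_dvd_card _) ?_)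
      rw [h351', show (351 : ℕ) = 13 * 27 by norm_num]
      exact (Nat.Coprime.mul_dvd_of_dvd_of_dvd (by norm_num)
        ((dvd_of_eq hPc.symm).trans (Subgroup.card_dvd_of_le le_sup_left))
        ((dvd_of_eq hQc.symm).trans (Subgroup.card_dvd_of_le le_sup_right)))
    have hRn : R.Normal := normalizer_eq_top_iff.1 (top_le_iff.1
      (htop.ge.trans (sup_le hRP hQR)))
    have hR := htriv R hRn (Q.2.to_le hRQ)
    have hker : ψ.ker = ⊥ := map_injective (Q : Subgroup H).subtype_injective
      (hR.trans (Subgroup.map_bot _).symm)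
    have hi : Nat.card ψ.range = 27 := by
      rw [← Subgroup.index_ker, hker, index_bot, hQc]
    rw [hi] at hrange
    norm_num at hrange
  · -- all Sylow subgroups are self-normalizing: a normal Sylow 3-subgroup
    have hnorm : normalizer ((P : Subgroup H) : Set H) = (P : Subgroup H) := by
      refine (Subgroup.eq_of_le_of_card_ge le_normalizer ?_).symm
      have h : 27 = (normalizer ((P : Subgroup H) : Set H)).index :=
        h27.symm.trans P.card_eq_index_normalizer
      have h' := (normalizer ((P : Subgroup H) : Set H)).card_mul_index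
      rw [← h, h351'] at h'
      omega
    haveI : IsCyclic P := isCyclic_of_prime_card hPc
    letI : CommGroup P := IsCyclic.commGroup
    have hcen : normalizer ((P : Subgroup H) : Set H) ≤ centralizer ((P : Subgroup H) : Set H) := by
      rw [hnorm]
      intro x hx
      rw [mem_centralizer_iff]
      intro y hy
      exact congrArg Subtype.val (mul_comm (⟨y, hy⟩ : P) ⟨x, hx⟩)
    have hcompl := MonoidHom.ker_transferSylow_isComplement' P hcen
    set K := (MonoidHom.transferSylow P hcen).ker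
    have hKc : Nat.card K = 27 := by
      have := hcompl.card_mul
      rw [hPc, h351'] at this
      omega
    have hK := htriv K inferInstance (IsPGroup.of_card (n := 3) (by rw [hKc]; norm_num))
    rw [hK, card_bot] at hKc
    norm_num at hKc

/-- A group with a regular abelian minimal normal subgroup. -/
theorem subsetBase_affine {Ω : Type w} [Finite Ω] [Nonempty Ω] {G : Subgroup (Perm Ω)}
    (hodd : Odd (Nat.card G)) (hsol : Group.IsSolvable G) (N : Subgroup G) [N.Normal] (hne : N ≠ ⊥)
    (hmin : ∀ K : Subgroup G, K.Normal → K ≤ N → K = ⊥ ∨ K = N)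
    (htrans : ∀ x y : Ω, ∃ u ∈ N, ((u : G) : Perm Ω) x = y) : SubsetBase G := by
  classical
  haveI := hsol
  have hab := Solvable.mul_comm_of_minimal_normal hne hmin
  obtain ⟨r, hr, hexp⟩ := Solvable.exists_prime_pow_eq_one_of_minimal_normal hne hmin
  haveI := Fact.mk hr
  obtain ⟨x₀⟩ := ‹Nonempty Ω›
  have hfree : ∀ u ∈ N, ∀ x : Ω, ((u : G) : Perm Ω) x = x → u = 1 := by
    intro u hu x hux
    refine Subtype.ext (Equiv.ext fun y => ?_)
    obtain ⟨v, hv, hvx⟩ := htrans x y
    have h1 : ((u * v : G) : Perm Ω) x = ((v * u : G) : Perm Ω) x := by rw [hab u hu v hv]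
    simp only [Subgroup.coe_mul, Perm.mul_apply, hux, hvx] at h1
    simpa using h1
  let e : N → Ω := fun u => ((u : G) : Perm Ω) x₀
  have he : Function.Bijective e := by
    refine ⟨fun u v huv => ?_, fun y => ?_⟩
    · have h1 : (((v : G)⁻¹ * u : G) : Perm Ω) x₀ = x₀ := by
        simp only [Subgroup.coe_mul, Subgroup.coe_inv, Perm.mul_apply]
        rw [show ((u : G) : Perm Ω) x₀ = ((v : G) : Perm Ω) x₀ from huv, perm_inv_apply]
      exact Subtype.ext (inv_mul_eq_one.1
        (hfree _ (N.mul_mem (N.inv_mem v.2) u.2) x₀ h1)).symm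
    · obtain ⟨u, hu, huy⟩ := htrans x₀ y
      exact ⟨⟨u, hu⟩, huy⟩
  have hn : Nat.card N = Nat.card Ω := Nat.card_eq_of_bijective e he
  have hNp : IsPGroup r N := fun u => ⟨1, Subtype.ext (by
    rw [pow_one]; exact hexp u u.2)⟩
  obtain ⟨d, hd⟩ := IsPGroup.iff_card.1 hNp
  have hd0 : d ≠ 0 := by
    rintro rfl
    exact hne (Subgroup.card_eq_one.1 (hd.trans (pow_zero r)))
  have hGodd : ∀ K : Subgroup G, Odd (Nat.card K) :=
    fun K => hodd.of_dvd_nat (Subgroup.card_subgroup_dvd_card K)
  have hr2 : r ≠ 2 := by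
    rintro rfl
    have h2 := hGodd N
    rw [hd, Nat.odd_pow_iff hd0] at h2
    exact (Nat.not_odd_iff_even.2 even_two) h2
  -- the stabilizer
  let H : Subgroup G := (MulAction.stabilizer G x₀)
  have hmemH : ∀ h : G, h ∈ H ↔ (h : Perm Ω) x₀ = x₀ := fun h => Iff.rfl
  let φ : H →* MulAut N := (MulAut.conjNormal (H := N)).comp H.subtype
  have hφv : ∀ (h : H) (u : N), ((φ h u : N) : G) = (h : G) * u * (h : G)⁻¹ := fun h u => rfl
  have heh : ∀ (h : H) (u : N), e (φ h u) = ((h : G) : Perm Ω) (e u) := by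
    intro h u
    show (((φ h u : N) : G) : Perm Ω) x₀ = _
    rw [hφv, Subgroup.coe_mul, Subgroup.coe_mul, Subgroup.coe_inv, Perm.mul_apply, Perm.mul_apply,
      (Perm.inv_eq_iff_eq).2 ((hmemH h).1 h.2).symm]
  have hφ : Function.Injective φ := by
    refine (injective_iff_map_eq_one φ).2 fun h hh => Subtype.ext (Subtype.ext (Equiv.ext fun y => ?_))
    obtain ⟨u, rfl⟩ := he.2 y
    rw [← heh, hh]
    rfl
  have hirr : ∀ L : Subgroup N, (∀ h : H, ∀ u ∈ L, φ h u ∈ L) → L = ⊥ ∨ L = ⊤ := by
    intro L hL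
    have hLn : (L.map N.subtype).Normal := by
      refine ⟨fun z hz g => ?_⟩
      obtain ⟨u, hu, rfl⟩ := hz
      -- write `g` as an element of `N` times one of `H`
      obtain ⟨v, hv, hvg⟩ := htrans x₀ ((g : Perm Ω) x₀)
      have hh : v⁻¹ * g ∈ H := by
        rw [hmemH, Subgroup.coe_mul, Subgroup.coe_inv, Perm.mul_apply, ← hvg, perm_inv_apply]
      refine ⟨φ ⟨_, hh⟩ u, hL _ u hu, ?_⟩
      show ((φ ⟨v⁻¹ * g, hh⟩ u : N) : G) = g * u * g⁻¹
      rw [hφv]
      have hc : v * (v⁻¹ * g * u * (v⁻¹ * g)⁻¹) = (v⁻¹ * g * u * (v⁻¹ * g)⁻¹) * v :=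
        hab v hv _ (hφv ⟨_, hh⟩ u ▸ (φ ⟨_, hh⟩ u).2)
      calc v⁻¹ * g * u * (v⁻¹ * g)⁻¹ = v * (v⁻¹ * g * u * (v⁻¹ * g)⁻¹) * v⁻¹ := by
            rw [hc, mul_inv_cancel_right]
        _ = g * u * g⁻¹ := by group
    rcases hmin _ hLn (map_subtype_le L) with h1 | h1
    · exact Or.inl (map_injective N.subtype_injective (h1.trans (Subgroup.map_bot _).symm))
    · refine Or.inr (map_injective N.subtype_injective (h1.trans ?_))
      rw [← MonoidHom.range_eq_map, range_subtype]
  -- orders
  have hGle : Nat.card G ≤ Nat.card N * Nat.card H := by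
    have hsurj : Function.Surjective (fun z : N × H => (z.1 : G) * z.2) := by
      intro g
      obtain ⟨v, hv, hvg⟩ := htrans x₀ ((g : Perm Ω) x₀)
      refine ⟨(⟨v, hv⟩, ⟨v⁻¹ * g, ?_⟩), by group⟩
      rw [hmemH, Subgroup.coe_mul, Subgroup.coe_inv, Perm.mul_apply, ← hvg, perm_inv_apply]
    refine (Nat.card_le_card_of_surjective _ hsurj).trans (le_of_eq ?_)
    rw [Nat.card_prod]
  -- fixed points
  have hfix : ∀ g : G, g ≠ 1 → r * Nat.card {x : Ω // (g : Perm Ω) x = x} ≤ Nat.card Ω := by
    intro g hg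
    by_cases hemp : IsEmpty {x : Ω // (g : Perm Ω) x = x}
    · rw [Nat.card_of_isEmpty, mul_zero]; exact Nat.zero_le _
    rw [not_isEmpty_iff] at hemp
    obtain ⟨x₁, hx₁⟩ := hemp
    obtain ⟨v, hv, hvx⟩ := htrans x₀ x₁
    let L : Subgroup N :=
      { carrier := {u | g * (u : G) = (u : G) * g}
        one_mem' := by simp
        mul_mem' := fun {a b} ha hb => by
          simp only [Set.mem_ofPred_eq, Subgroup.coe_mul] at ha hb ⊢
          rw [← mul_assoc, ha, mul_assoc, hb, mul_assoc]
        inv_mem' := fun {a} ha => by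
          simp only [Set.mem_ofPred_eq, Subgroup.coe_inv] at ha ⊢
          exact (Commute.inv_right (ha : Commute g (a : G))).eq }
    have hLtop : L ≠ ⊤ := by
      intro htop
      refine hg (Subtype.ext (Equiv.ext fun y => ?_))
      obtain ⟨u, hu, huy⟩ := htrans x₁ y
      have h1 : g * u = u * g := (htop.ge (mem_top (⟨u, hu⟩ : N)))
      have h2 : (g : Perm Ω) ((u : Perm Ω) x₁) = (u : Perm Ω) ((g : Perm Ω) x₁) :=
        congrArg (fun z : G => (z : Perm Ω) x₁) h1
      rw [hx₁, huy] at h2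
      simpa using h2
    have hcard : Nat.card {x : Ω // (g : Perm Ω) x = x} ≤ Nat.card L := by
      have hsur : ∀ x : {x : Ω // (g : Perm Ω) x = x}, ∃ u : L, ((u : N) : G) = (u : N) ∧
          (((u : N) : G) : Perm Ω) x₁ = x := by
        intro x
        obtain ⟨u, hu, hux⟩ := htrans x₁ x
        refine ⟨⟨⟨u, hu⟩, ?_⟩, rfl, hux⟩
        show g * u = u * g
        have hconj : g * u * g⁻¹ ∈ N := (inferInstance : N.Normal).conj_mem u hu g
        have h1 : ((u⁻¹ * (g * u * g⁻¹) : G) : Perm Ω) x₁ = x₁ := by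
          simp only [Subgroup.coe_mul, Subgroup.coe_inv, Perm.mul_apply]
          rw [(Perm.inv_eq_iff_eq).2 hx₁.symm, hux, x.2, Perm.inv_eq_iff_eq]
          exact hux.symm
        have h2 := hfree _ (N.mul_mem (N.inv_mem hu) hconj) x₁ h1
        have h3 : g * u * g⁻¹ = u := (inv_mul_eq_one.1 h2).symm
        calc g * u = g * u * g⁻¹ * g := by group
          _ = u * g := by rw [h3]
      choose f _ hf using hsur
      refine Nat.card_le_card_of_injective f fun a b hab => Subtype.ext ?_
      rw [← hf a, ← hf b, hab]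
    obtain ⟨i, -, hi⟩ := (Nat.dvd_prime_pow hr).1 (hd ▸ Subgroup.card_subgroup_dvd_card L)
    have hlt : i < d := by
      rw [← Nat.pow_lt_pow_iff_right hr.one_lt, ← hi, ← hd]
      exact lt_of_le_of_ne (Finite.card_subtype_le _) fun h => hLtop
        (Subgroup.eq_top_of_card_eq L h)
    calc r * Nat.card {x : Ω // (g : Perm Ω) x = x} ≤ r * r ^ i :=
          Nat.mul_le_mul_left _ (hi ▸ hcard)
      _ ≤ r ^ d := by rw [← pow_succ']; exact Nat.pow_le_pow_right hr.pos hlt
      _ = Nat.card Ω := by rw [← hd, hn]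
  have h3r : 3 ≤ r := by have := hr.two_le; omega
  have hcyc : ∀ g ∈ G, g ≠ 1 → ∀ C : ℕ, (Nat.card Ω + 2 * (Nat.card Ω / r)) / 3 ≤ C →
      Nat.card {S : Set Ω // ∀ x, g x ∈ S ↔ x ∈ S} ≤ 2 ^ C := by
    intro g hg hg1 C hC
    obtain ⟨k, hk⟩ := exists_pow_two_mul_add_one hodd hg
    obtain ⟨c, hc, hc3⟩ := card_invariant_subsets_le hk
    refine hc.trans (Nat.pow_le_pow_right (by norm_num) (le_trans ?_ hC))
    have h1 := hfix ⟨g, hg⟩ fun h => hg1 (congrArg Subtype.val h)
    have h2 : Nat.card {x : Ω // g x = x} ≤ Nat.card Ω / r :=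
      (Nat.le_div_iff_mul_le hr.pos).2 (by rw [mul_comm]; exact h1)
    omega
  have hΩ : Nat.card Ω = r ^ d := hn ▸ hd
  rcases Nat.lt_or_ge d 2 with hd2 | hd2
  · obtain rfl : d = 1 := by omega
    -- prime degree
    haveI : IsCyclic N := isCyclic_of_prime_card (hd.trans (pow_one r))
    have hHd : Nat.card H ∣ r - 1 := by
      have := Subgroup.card_dvd_of_injective φ hφ
      rwa [IsCyclic.card_mulAut, hd, pow_one, Nat.totient_prime hr] at this
    have hH2 : 2 * Nat.card H ≤ r - 1 := by
      obtain ⟨k, hk⟩ := hHd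
      have hk2 : 2 ≤ k := by
        by_contra hlt
        have hr1 : r - 1 ≠ 0 := by omega
        obtain rfl : k = 1 := by
          rcases k with _ | _ | k
          · simp at hk; omega
          · rfl
          · omega
        have := hGodd H
        rw [mul_one] at hk
        rw [← hk] at this
        obtain ⟨j, hj⟩ := hr.odd_of_ne_two hr2
        obtain ⟨i, hi⟩ := this
        omega
      rw [hk, mul_comm]
      exact Nat.mul_le_mul_left _ hk2
    refine exists_subset_of_count hodd (c := (r + 2) / 3) (m := r * ((r - 1) / 2))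
      (hGle.trans ?_) (fun g hg h1 => hcyc g hg h1 _ ?_) ?_
    · rw [hd, pow_one]
      refine Nat.mul_le_mul_left r ?_
      omega
    · rw [hΩ, pow_one, Nat.div_self hr.pos]
    · rw [hΩ, pow_one]
      rcases Nat.lt_or_ge r 5 with h5 | h5
      · obtain rfl : r = 3 := by
          rcases Nat.lt_or_ge r 4 with h | h
          · omega
          · exfalso; obtain rfl : r = 4 := by omega
            norm_num at hr
        norm_num
      · have key : r ^ 2 * 2 ^ ((r + 2) / 3) ≤ 2 ^ (r + 2) := by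
          rw [← Nat.pow_le_pow_iff_left (n := 3) (by norm_num), mul_pow, ← pow_mul, ← pow_mul,
            ← pow_mul]
          calc r ^ (2 * 3) * 2 ^ ((r + 2) / 3 * 3) ≤ 64 * 2 ^ (2 * r - 2) * 2 ^ (r + 2) :=
                Nat.mul_le_mul (pow_le_two_pow_prime h5)
                  (Nat.pow_le_pow_right (by norm_num) (Nat.div_mul_le_self _ _))
            _ = 2 ^ (6 + (2 * r - 2) + (r + 2)) := by
                rw [show (64 : ℕ) = 2 ^ 6 by norm_num, ← pow_add, ← pow_add]
            _ ≤ 2 ^ ((r + 2) * 3) := Nat.pow_le_pow_right (by norm_num) (by omega)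
        have h2m : 2 * (r * ((r - 1) / 2)) ≤ r ^ 2 := by
          rw [sq, Nat.mul_left_comm]
          exact Nat.mul_le_mul_left r (by omega)
        have h3m := (Nat.mul_le_mul_right (2 ^ ((r + 2) / 3)) h2m).trans key
        rw [pow_succ' 2 (r + 1), Nat.mul_assoc 2] at h3m
        omega
  · -- larger degree
    letI : CommGroup N :=
      { (inferInstance : Group N) with mul_comm := fun a b => Subtype.ext (hab a a.2 b b.2) }
    have hexp' : ∀ u : N, u ^ r = 1 := fun u => Subtype.ext (hexp u u.2)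
    have hntN : Nontrivial N := N.nontrivial_iff_ne_bot.2 hne
    have htriv : ∀ R : Subgroup H, R.Normal → IsPGroup r R → R = ⊥ := by
      intro R hR hRp
      refine (Subgroup.eq_bot_iff_forall R).2 fun h hh => hφ ?_
      rw [map_one]
      exact acts_trivially_of_normal_pGroup φ hNp hntN hirr R hRp h hh
    have hHdvd := natCard_dvd_GL hexp' hd φ hφ
    by_cases h32 : r = 3 ∧ d = 2
    · obtain ⟨rfl, rfl⟩ := h32
      exfalso
      have h48 : Nat.card H ∣ 3 := by
        refine Nat.Coprime.dvd_of_dvd_mul_left ((hGodd H).coprime_two_left.pow_left 4).symm ?_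
        rw [show (2 : ℕ) ^ 4 * 3 = 48 by norm_num]
        simpa [Fin.prod_univ_two] using hHdvd
      have hHp : IsPGroup 3 H := by
        rcases (Nat.dvd_prime Nat.prime_three).1 h48 with h | h
        · exact IsPGroup.of_card (n := 0) (h.trans (pow_zero 3).symm)
        · exact IsPGroup.of_card (n := 1) (h.trans (pow_one 3).symm)
      have hHbot : (⊤ : Subgroup H) = ⊥ := htriv ⊤ inferInstance (hHp.to_subgroup ⊤)
      have hall : ∀ h : H, h = 1 := fun h => mem_bot.1 (hHbot ▸ mem_top h)
      obtain ⟨u, hu, hu1⟩ := N.bot_or_exists_ne_one.resolve_left hne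
      rcases hirr (zpowers (⟨u, hu⟩ : N)) (fun h v hv => by
        rw [hall h, map_one]; exact hv) with h1 | h1
      · exact hu1 (congrArg Subtype.val (zpowers_eq_bot.1 h1))
      · have h9 : orderOf (⟨u, hu⟩ : N) = 3 ^ 2 := by
          rw [← Nat.card_zpowers, h1, card_top, hd]
        have h3 := Nat.le_of_dvd (by norm_num) (orderOf_dvd_of_pow_eq_one (hexp' ⟨u, hu⟩))
        rw [h9] at h3
        norm_num at h3
    by_cases h33 : r = 3 ∧ d = 3
    · obtain ⟨rfl, rfl⟩ := h33
      have h351 : Nat.card H ∣ 351 := by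
        refine Nat.Coprime.dvd_of_dvd_mul_left ((hGodd H).coprime_two_left.pow_left 5).symm ?_
        rw [show (2 : ℕ) ^ 5 * 351 = 11232 by norm_num]
        simpa [Fin.prod_univ_three] using hHdvd
      have hne351 : Nat.card H ≠ 351 := card_ne_351 htriv
      have hH117 : Nat.card H ≤ 117 := by
        obtain ⟨k, hk⟩ := h351
        rcases Nat.lt_or_ge k 3 with hk3 | hk3
        · interval_cases k
          · simp at hk
          · exact absurd (by omega) hne351
          · omega
        · have := Nat.mul_le_mul_left (Nat.card H) hk3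
          omega
      refine exists_subset_of_count hodd (c := 15) (m := 27 * 117)
        (hGle.trans (Nat.mul_le_mul (by rw [hd]; norm_num) hH117))
        (fun g hg h1 => hcyc g hg h1 _ (by rw [hΩ]; norm_num)) (by rw [hΩ]; norm_num)
    by_cases h52 : r = 5 ∧ d = 2
    · obtain ⟨rfl, rfl⟩ := h52
      have h15 : Nat.card H ≤ 15 := Nat.le_of_dvd (by norm_num) (by
        refine Nat.Coprime.dvd_of_dvd_mul_left ((hGodd H).coprime_two_left.pow_left 5).symm ?_
        rw [show (2 : ℕ) ^ 5 * 15 = 480 by norm_num]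
        simpa [Fin.prod_univ_two] using hHdvd)
      refine exists_subset_of_count hodd (c := 11) (m := 25 * 15)
        (hGle.trans (Nat.mul_le_mul (by rw [hd]; norm_num) h15))
        (fun g hg h1 => hcyc g hg h1 _ (by rw [hΩ]; norm_num)) (by rw [hΩ]; norm_num)
    refine exists_subset_of_count hodd (c := (r ^ d + 2 * (r ^ d / r)) / 3) (m := r ^ (d * (d + 1)))
      (hGle.trans ?_) (fun g hg h1 => hcyc g hg h1 _ (by rw [hΩ])) ?_
    · refine le_trans (Nat.mul_le_mul_left _ (natCard_le_pow_of_faithful hr hd φ hφ)) (le_of_eq ?_)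
      rw [hd, ← pow_mul, ← pow_add]
      ring_nf
    · rw [hΩ]
      refine affine_bound hr hr2 hd2 ?_ h52 ?_
      · rintro ⟨rfl, h⟩
        rcases Nat.lt_or_ge d 3 with h' | h'
        · exact h32 ⟨rfl, by omega⟩
        · exact h33 ⟨rfl, by omega⟩
      · have h1 : 3 * (r ^ d / r) ≤ r ^ d :=
          le_trans (Nat.mul_le_mul_right _ h3r) (Nat.mul_div_le _ _)
        omega

/-- **Gluck**: a solvable permutation group of odd order has a regular orbit on subsets. -/
theorem exists_subsetBase (n : ℕ) : ∀ (Ω : Type w) [Finite Ω], Nat.card Ω = n →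
    ∀ G : Subgroup (Perm Ω), Odd (Nat.card G) → Group.IsSolvable G → SubsetBase G := by
  induction n using Nat.strong_induction_on with
  | _ n ih =>
  intro Ω _ hn G hodd hsol
  classical
  haveI := hsol
  by_cases hG : G = ⊥
  · exact ⟨∅, fun g hg _ => mem_bot.1 (hG ▸ hg)⟩
  -- colouring along a partition into orbits of a normal subgroup
  have step : ∀ N : Subgroup G, N.Normal → N ≠ ⊥ →
      ¬ (∀ x y : Ω, ∃ u ∈ N, ((u : G) : Perm Ω) x = y) → SubsetBase G := by
    intro N hN hN1 hNt
    let rel : Setoid Ω :=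
      { r := fun x y => ∃ u ∈ N, ((u : G) : Perm Ω) x = y
        iseqv := ⟨fun x => ⟨1, one_mem _, rfl⟩, fun {x y} => fun ⟨u, hu, h⟩ =>
          ⟨u⁻¹, inv_mem hu, by rw [← h, Subgroup.coe_inv]; exact perm_inv_apply _ _⟩,
          fun {x y z} => fun ⟨u, hu, h⟩ ⟨v, hv, h'⟩ =>
            ⟨v * u, mul_mem hv hu, by rw [Subgroup.coe_mul, Perm.mul_apply, h, h']⟩⟩ }
    let π : Ω → Quotient rel := Quotient.mk rel
    have hmove : ∀ (g : G) x y, rel.r x y → rel.r ((g : Perm Ω) x) ((g : Perm Ω) y) := by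
      rintro g x y ⟨u, hu, h⟩
      refine ⟨g * u * g⁻¹, hN.conj_mem u hu g, ?_⟩
      simp only [Subgroup.coe_mul, Subgroup.coe_inv, Perm.mul_apply, perm_inv_apply, h]
    let τfun : G → Quotient rel → Quotient rel := fun g =>
      Quotient.map (g : Perm Ω) fun x y h => hmove g x y h
    have hτone : ∀ q, τfun 1 q = q := fun q => Quotient.inductionOn q fun x => rfl
    have hτmul : ∀ g h q, τfun (g * h) q = τfun g (τfun h q) := fun g h q =>
      Quotient.inductionOn q fun x => rfl
    let τ : G →* Perm (Quotient rel) :=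
      { toFun := fun g => ⟨τfun g, τfun g⁻¹,
          fun q => by rw [← hτmul, inv_mul_cancel, hτone],
          fun q => by rw [← hτmul, mul_inv_cancel, hτone]⟩
        map_one' := Equiv.ext hτone
        map_mul' := fun g h => Equiv.ext (hτmul g h) }
    have hπ : Function.Surjective π := Quotient.mk_surjective
    have hτ : ∀ (g : G) x, π ((g : Perm Ω) x) = τ g (π x) := fun g x => rfl
    -- fewer blocks
    obtain ⟨u, hu, hu1⟩ := N.bot_or_exists_ne_one.resolve_left hN1
    obtain ⟨x₁, hx₁⟩ : ∃ x, ((u : G) : Perm Ω) x ≠ x := by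
      by_contra! h
      exact hu1 (Subtype.ext (Equiv.ext h))
    have hBlt : Nat.card (Quotient rel) < n := by
      rw [← hn]
      refine lt_of_le_of_ne (Nat.card_le_card_of_surjective π hπ) fun h => hx₁ ?_
      have hinj : Function.Injective π :=
        ((Nat.bijective_iff_surjective_and_card π).2 ⟨hπ, h.symm⟩).1
      exact (hinj (Quotient.sound ⟨u, hu, rfl⟩ : π x₁ = π ((u : Perm Ω) x₁))).symm
    refine subsetBase_of_map hodd π hπ τ hτ
      (ih _ hBlt (Quotient rel) rfl τ.range (hodd.of_dvd_nat (Subgroup.card_range_dvd τ))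
        (solvable_of_surjective τ.rangeRestrict_surjective)) fun b => ?_
    -- the fibre
    have hFlt : Nat.card {x // π x = b} < n := by
      rw [← hn]
      refine lt_of_le_of_ne (Finite.card_subtype_le _) fun h => hNt ?_
      have hall : ∀ x, π x = b := by
        intro x
        have hs := ((Nat.bijective_iff_injective_and_card
          (Subtype.val : {x // π x = b} → Ω)).2 ⟨Subtype.val_injective, h⟩).2 x
        obtain ⟨y, rfl⟩ := hs
        exact y.2
      intro x y
      exact Quotient.exact ((hall x).trans (hall y).symm)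
    let Gb : Subgroup G := (MulAction.stabilizer (Perm (Quotient rel)) b).comap τ
    have hGb : ∀ g : Gb, ∀ x, π x = b → π (((g : G) : Perm Ω) x) = b := fun g x hx => by
      rw [hτ, hx]; exact g.2
    let ρ : Gb →* Perm {x // π x = b} :=
      { toFun := fun g =>
          { toFun := fun x => ⟨((g : G) : Perm Ω) x, hGb g x x.2⟩
            invFun := fun x => ⟨((g⁻¹ : Gb) : G).1 x, hGb g⁻¹ x x.2⟩
            left_inv := fun x => Subtype.ext (by simp)
            right_inv := fun x => Subtype.ext (by simp) }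
        map_one' := Equiv.ext fun x => Subtype.ext rfl
        map_mul' := fun g h => Equiv.ext fun x => Subtype.ext rfl }
    obtain ⟨S, hS⟩ := ih _ hFlt {x // π x = b} rfl ρ.range
      ((hodd.of_dvd_nat (Subgroup.card_subgroup_dvd_card Gb)).of_dvd_nat
        (Subgroup.card_range_dvd ρ)) (solvable_of_surjective ρ.rangeRestrict_surjective)
    refine ⟨Subtype.val '' S, fun g hg hgS x hx => ?_⟩
    have h1 : ρ ⟨g, hg⟩ = 1 := hS _ ⟨_, rfl⟩ fun z => by
      have := hgS z z.2
      rw [Subtype.val_injective.mem_set_image] at this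
      rw [← this, ← Subtype.val_injective.mem_set_image (s := S)]
      rfl
    exact congrArg Subtype.val (DFunLike.congr_fun h1 ⟨x, hx⟩)
  by_cases htr : ∀ x y : Ω, ∃ u ∈ (⊤ : Subgroup G), ((u : G) : Perm Ω) x = y
  swap
  · refine step ⊤ inferInstance (fun h => hG ?_) htr
    refine (Subgroup.eq_bot_iff_forall G).2 fun g hg => ?_
    have h' : (⟨g, hg⟩ : G) ∈ (⊥ : Subgroup G) := by rw [← h]; exact mem_top _
    exact congrArg Subtype.val (mem_bot.1 h')
  haveI : Nontrivial G := G.nontrivial_iff_ne_bot.2 hG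
  obtain ⟨N, hN, hN1, hmin⟩ := Solvable.exists_minimal_normal (G := G)
  by_cases hNt : ∀ x y : Ω, ∃ u ∈ N, ((u : G) : Perm Ω) x = y
  · haveI : Nonempty Ω := by
      obtain ⟨g, hg, hg1⟩ := G.bot_or_exists_ne_one.resolve_left hG
      by_contra hne
      rw [not_nonempty_iff] at hne
      exact hg1 (Equiv.ext fun x => isEmptyElim x)
    exact subsetBase_affine hodd hsol N hN1 hmin hNt
  · exact step N hN hN1 hNt

end CfsgLib.RegOrbit
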