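import Cfsg.Agent.RegOrbit.Count
import Cfsg.Agent.RegOrbit.Numeric
import Cfsg.Agent.RegOrbit.QuotientModule
import Mathlib.LinearAlgebra.Dual.Lemmas
import Mathlib.RingTheory.IntegralDomain
import Mathlib.FieldTheory.Finite.Basic

/-!
# Bases of two vectors for primitive groups of odd order
-/

set_option autoImplicit false
set_option linter.style.haveILetI false

namespace CfsgLib.RegOrbit

open scoped commutatorElement

universe v

variable {V : Type v} [AddCommGroup V] [Finite V] [Nontrivial V]

/-- The index over `Z` is at most the square of the dimension. -/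
theorem relIndex_le_finrank_sq {F : Type*} [Field F] [Finite F] [Module F V]
    {A Z E : Subgroup (AutGp V)} (h : SympData A Z E) {ι : Z →* Fˣ} (hι : Function.Injective ι)
    (hscalar : ∀ (z : Z) v, ((z : AutGp V) : AddMonoid.End V) v = (ι z : F) • v)
    (hlin : ∀ a ∈ E, ∀ (t : F) v, (a : AddMonoid.End V) (t • v) = t • (a : AddMonoid.End V) v) :
    Z.relIndex E ≤ Module.finrank F V ^ 2 := by
  classical
  haveI : Fintype (E ⧸ Z.subgroupOf E) := Fintype.ofFinite _
  let L : E ⧸ Z.subgroupOf E → Module.End F V := fun x =>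
    { toFun := fun v => ((x.out : E) : AutGp V).val v
      map_add' := fun u v => map_add (((x.out : E) : AutGp V) : AddMonoid.End V) u v
      map_smul' := fun t v => hlin _ x.out.2 t v }
  have hli : LinearIndependent F L := by
    rw [Fintype.linearIndependent_iff]
    intro c hc x
    -- the relation at all conjugates
    have hrel : ∀ (b : E) (v : V),
        ∑ y, (h.pairing ι b y.out : F) • c y • L y v = 0 := by
      intro b v
      have h1 := LinearMap.congr_fun hc (((b⁻¹ : E) : AutGp V).val v)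
      rw [LinearMap.sum_apply, LinearMap.zero_apply] at h1
      have h2 := congrArg ((b : AutGp V) : AddMonoid.End V) h1
      rw [map_zero, map_sum] at h2
      rw [← h2]
      refine Finset.sum_congr rfl fun y _ => ?_
      rw [LinearMap.smul_apply, hlin _ b.2, smul_comm]
      refine congrArg (c y • ·) ?_
      show _ = (b : AutGp V).val (((y.out : E) : AutGp V).val (((b⁻¹ : E) : AutGp V).val v))
      rw [commutator_apply', Subgroup.coe_inv, apply_inv']
      exact (hscalar ⟨_, h.comm b b.2 y.out y.out.2⟩ _).symm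
    obtain ⟨v, hv⟩ := exists_ne (0 : V)
    have hLv : L x v ≠ 0 := fun h0 => hv (by
      rw [← inv_apply' ((x.out : E) : AutGp V) v]
      exact (congrArg (((x.out : E) : AutGp V)⁻¹).val h0).trans (map_zero _))
    suffices c x • L x v = 0 from (smul_eq_zero.1 this).resolve_right hLv
    by_contra hne
    obtain ⟨φ, hφ⟩ : ∃ φ : Module.Dual F V, φ (c x • L x v) ≠ 0 := by
      by_contra hno
      push Not at hno
      exact hne ((Module.forall_dual_apply_eq_zero_iff F _).1 hno)
    let χ : E ⧸ Z.subgroupOf E → (E →* F) := fun y =>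
      (Units.coeHom F).comp ((h.pairing ι).flip y.out)
    have hχ : Function.Injective χ := fun y y' hyy => by
      have h1 : ∀ b : E, h.pairing ι b y.out = h.pairing ι b y'.out := fun b =>
        Units.ext (DFunLike.congr_fun hyy b)
      haveI := h.normal
      have h2 : y.out⁻¹ * y'.out ∈ Z.subgroupOf E := by
        refine Subgroup.mem_subgroupOf.2 (h.rad ⟨(y.out⁻¹ * y'.out : E).2,
          Subgroup.mem_centralizer_iff.2 fun u hu => ?_⟩)
        refine (h.pairing_eq_one hι ⟨u, hu⟩ _).1 ?_
        rw [map_mul, map_inv, h1, inv_mul_cancel]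
      rw [← y.out_eq, ← y'.out_eq]
      exact QuotientGroup.eq.2 h2
    refine hφ ?_
    refine Fintype.linearIndependent_iff.1 ((linearIndependent_monoidHom E F).comp χ hχ)
      (fun y => φ (c y • L y v)) (funext fun b => ?_) x
    rw [Finset.sum_apply, Pi.zero_apply, ← map_zero φ, ← hrel b v, map_sum]
    refine Finset.sum_congr rfl fun y _ => ?_
    rw [map_smul φ (h.pairing ι b y.out : F)]
    exact mul_comm _ _
  have h1 := hli.fintype_card_le_finrank
  rw [Module.finrank_linearMap, ← sq] at h1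
  rwa [Subgroup.relIndex, Subgroup.index_eq_card, Nat.card_eq_fintype_card]

/-- The primitive case. -/
theorem base_of_primitive {A : Subgroup (AutGp V)} (hodd : Odd (Nat.card A))
    (hsol : Group.IsSolvable A) (hprim : Prim A) (hirr : Irred A)
    (ih : BaseBelow.{v} (Nat.card V)) : Base A := by
  classical
  obtain ⟨Z, ⟨hZA, hZn, hZc⟩, hZmax⟩ := Set.Finite.exists_maximalFor id
    {M : Subgroup (AutGp V) | M ≤ A ∧ NormBy A M ∧ ∀ x ∈ M, ∀ y ∈ M, x * y = y * x}
    (Set.toFinite _)
    ⟨⊥, bot_le, fun a _ x hx => by rw [Subgroup.mem_bot.1 hx, mul_one, mul_inv_cancel]; exact one_mem _,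
      fun x hx y _ => by rw [Subgroup.mem_bot.1 hx, one_mul, mul_one]⟩
  have hmax : ∀ M ≤ A, NormBy A M → (∀ x ∈ M, ∀ y ∈ M, x * y = y * x) → Z ≤ M → M ≤ Z :=
    fun M h1 h2 h3 h4 => hZmax ⟨h1, h2, h3⟩ h4
  -- the field
  set K := Subring.closure (((↑) : AutGp V → AddMonoid.End V) '' (Z : Set (AutGp V))) with hKdef
  have hK : NormRing A K := normRing_closure Z hZc hZn
  letI : CommRing K :=
    { (inferInstance : Ring K) with mul_comm := fun x y => Subtype.ext (hK.comm x x.2 y y.2) }
  haveI : Nontrivial K := by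
    refine ⟨0, 1, fun h => ?_⟩
    obtain ⟨v, hv⟩ := exists_ne (0 : V)
    exact hv (DFunLike.congr_fun (congrArg Subtype.val h) v).symm
  haveI : NoZeroDivisors K := ⟨fun {x y} hxy => by
    by_cases hx : x = 0
    · exact Or.inl hx
    refine Or.inr (Subtype.ext (AddMonoidHom.ext fun v => ?_))
    refine hK.injective hprim hirr x.2 (fun h => hx (Subtype.ext h)) ?_
    exact (DFunLike.congr_fun (congrArg Subtype.val hxy) v).trans (map_zero (x : AddMonoid.End V)).symm⟩
  haveI : IsDomain K := NoZeroDivisors.to_isDomain K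
  haveI : Fintype K := Fintype.ofFinite K
  letI : Field K := Fintype.fieldOfDomain K
  let ι₀ : Z →* K :=
    { toFun := fun z => ⟨((z : AutGp V) : AddMonoid.End V),
        Subring.subset_closure ⟨_, z.2, rfl⟩⟩
      map_one' := rfl
      map_mul' := fun _ _ => rfl }
  let ι : Z →* Kˣ := ι₀.toHomUnits
  have hι : Function.Injective ι := fun a b hab =>
    Subtype.ext (Units.ext (congrArg (fun u : Kˣ => ((u : K) : AddMonoid.End V)) hab))
  have hscalar : ∀ (z : Z) v, ((z : AutGp V) : AddMonoid.End V) v = (ι z : K) • v := fun z v => rfl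
  set C := A ⊓ Subgroup.centralizer (Z : Set (AutGp V)) with hC
  have hlin : ∀ a ∈ C, ∀ (t : K) v,
      (a : AddMonoid.End V) (t • v) = t • (a : AddMonoid.End V) v := by
    intro a ha t v
    have hle : K ≤ Subring.centralizer ({(a : AddMonoid.End V)} : Set (AddMonoid.End V)) := by
      rw [hKdef, Subring.closure_le]
      rintro _ ⟨z, hz, rfl⟩
      rw [SetLike.mem_coe, Subring.mem_centralizer_iff]
      intro u hu
      rw [Set.mem_singleton_iff] at hu
      rw [hu]
      exact congrArg Units.val (Subgroup.mem_centralizer_iff.1 ha.2 z hz).symm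
    exact DFunLike.congr_fun (Subring.mem_centralizer_iff.1 (hle t.2) (a : AddMonoid.End V) rfl) v
  obtain ⟨g, hg⟩ := IsCyclic.exists_generator (α := Kˣ)
  set g₀ : K := (g : K) with hg₀
  have hsemi : ∀ a ∈ A, ∃ t : K, ∀ v,
      (a : AddMonoid.End V) (g₀ • v) = t • (a : AddMonoid.End V) v := fun a ha =>
    ⟨⟨_, hK.norm a ha _ g₀.2⟩, fun v => (conj_apply v).symm⟩
  have hmemC : ∀ a ∈ A, (∀ v, (a : AddMonoid.End V) (g₀ • v) = g₀ • (a : AddMonoid.End V) v) →
      a ∈ C := by
    intro a ha hag
    refine ⟨ha, Subgroup.mem_centralizer_iff.2 fun z hz => ?_⟩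
    obtain ⟨k, hk⟩ := (isOfFinOrder_of_finite g).mem_powers_iff_mem_zpowers.2 (hg (ι ⟨z, hz⟩))
    have hpow : ∀ (i : ℕ) v,
        (a : AddMonoid.End V) (g₀ ^ i • v) = g₀ ^ i • (a : AddMonoid.End V) v := by
      intro i
      induction i with
      | zero => intro v; rw [pow_zero, one_smul, one_smul]
      | succ i ih => intro v; rw [pow_succ, mul_smul, mul_smul, ih, hag]
    refine Units.ext (AddMonoidHom.ext fun v => ?_)
    have h1 : ∀ w : V, (z : AddMonoid.End V) w = g₀ ^ k • w := fun w => by
      rw [show (z : AddMonoid.End V) w = (ι ⟨z, hz⟩ : K) • w from rfl, ← show g ^ k = _ from hk,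
        Units.val_pow_eq_pow_val]
    show (z : AddMonoid.End V) ((a : AddMonoid.End V) v) =
      (a : AddMonoid.End V) ((z : AddMonoid.End V) v)
    rw [h1, h1, hpow]
  obtain ⟨E, hE⟩ := exists_sympData hsol hZA hZn hZc hmax
  set e2 := Z.relIndex E with he2
  obtain ⟨e, he⟩ := hE.exists_relIndex_eq_sq hι
  rw [← he2] at he
  by_cases hEZ : E ≤ Z
  · -- the semilinear case
    have hCZ : C ≤ Z := fun c hc => hE.cent ⟨hc, Subgroup.mem_centralizer_iff.2 fun u hu =>
      (Subgroup.mem_centralizer_iff.1 hc.2 u (hEZ hu))⟩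
    obtain ⟨v, hv⟩ := exists_ne (0 : V)
    refine ⟨v, g₀ • v, fun a ha h1 h2 => ?_⟩
    obtain ⟨t, ht⟩ := hsemi a ha
    rw [ht, h1] at h2
    have htg : t = g₀ := sub_eq_zero.1 ((smul_eq_zero.1 (show (t - g₀) • v = 0 by
      rw [sub_smul, h2, sub_self])).resolve_right hv)
    have haZ : a ∈ Z := hCZ (hmemC a ha fun w => by rw [ht, htg])
    rw [hscalar ⟨a, haZ⟩] at h1
    have h3 : (ι ⟨a, haZ⟩ : K) = 1 := sub_eq_zero.1 ((smul_eq_zero.1
      (show ((ι ⟨a, haZ⟩ : K) - 1) • v = 0 by
        rw [sub_smul, h1, one_smul, sub_self])).resolve_right hv)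
    exact congrArg Subtype.val ((map_eq_one_iff ι hι).1 (Units.ext h3))
  have hEC : E ≤ C := hE.leC
  -- the index `e ^ 2`
  have he1 : e2 ≠ 1 := fun h1 => hEZ (Subgroup.relIndex_eq_one.1 h1)
  have he0 : e2 ≠ 0 := Subgroup.index_ne_zero_of_finite
  have hEA : E ≤ A := hEC.trans inf_le_left
  have heodd : Odd e := by
    have h1 : Odd e2 := hodd.of_dvd_nat
      ((Subgroup.relIndex_dvd_card Z E).trans (Subgroup.card_dvd_of_le hEA))
    rw [he] at h1
    exact (Nat.odd_pow_iff (by norm_num)).1 h1
  set q := Nat.card K with hq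
  set n := Module.finrank K V with hn
  have hV : Nat.card V = q ^ n := exists_natCard_eq_pow
  have hen : e ≤ n := by
    have h1 := relIndex_le_finrank_sq hE hι hscalar fun a ha => hlin a (hEC ha)
    rw [← he2, he] at h1
    exact (Nat.pow_le_pow_iff_left (by norm_num)).1 h1
  have hqpp : IsPrimePow q := by
    rw [hq, Nat.card_eq_fintype_card]; exact FiniteField.isPrimePow_card K
  have hKu : Nat.card Kˣ = q - 1 := by rw [Nat.card_units]
  have hr : ∀ r, r.Prime → r ∣ e → r ∣ q - 1 := by
    intro r hr hre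
    haveI := Fact.mk hr
    haveI := hE.normal
    obtain ⟨x, hx⟩ := exists_prime_orderOf_dvd_card' (G := E ⧸ Z.subgroupOf E) r (by
      show r ∣ Z.relIndex E
      rw [← he2, he]; exact hre.trans (dvd_pow_self e (by norm_num)))
    obtain ⟨u, rfl⟩ := QuotientGroup.mk'_surjective (Z.subgroupOf E) x
    have hu : u ^ r ∈ Z.subgroupOf E := by
      rw [← QuotientGroup.eq_one_iff, ← hx]
      exact pow_orderOf_eq_one ((QuotientGroup.mk' (Z.subgroupOf E)) u)
    obtain ⟨b, hb⟩ : ∃ b, hE.pairing ι u b ≠ 1 := by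
      by_contra hno
      push Not at hno
      have h1 : u ∈ (hE.pairing ι).ker := MonoidHom.mem_ker.2 (MonoidHom.ext hno)
      rw [hE.ker_pairing hι, ← QuotientGroup.eq_one_iff] at h1
      rw [show (QuotientGroup.mk' (Z.subgroupOf E)) u = 1 from h1, orderOf_one] at hx
      exact hr.ne_one hx.symm
    have hbr : hE.pairing ι u b ^ r = 1 := by
      rw [← MonoidHom.pow_apply, ← map_pow]
      have h1 : hE.pairing ι (u ^ r) = 1 := by
        rw [← MonoidHom.mem_ker, hE.ker_pairing hι]; exact hu
      rw [h1, MonoidHom.one_apply]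
    rw [← hKu, ← orderOf_eq_prime hbr hb]
    exact orderOf_dvd_natCard _
  have hn2 : 2 ≤ e := by
    rcases e with _ | _ | e
    · exact absurd (by simpa using he) he0
    · exact absurd (by simpa using he) he1
    · omega
  have he3 : 3 ≤ e := by
    obtain ⟨k, rfl⟩ := heodd; omega
  obtain ⟨r, hr1, hr2⟩ := Nat.exists_prime_and_dvd (show e ≠ 1 by omega)
  have hq2 : 2 ≤ q := hqpp.two_le
  have hq4 : 4 ≤ q := by
    have h1 := Nat.le_of_dvd (by omega) (hr r hr1 hr2)
    have h2 : r ≠ 2 := by
      rintro rfl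
      exact Nat.not_even_iff_odd.2 heodd (even_iff_two_dvd.2 hr2)
    have := hr1.two_le
    omega
  -- the group induced on the quotient
  obtain ⟨W, iW, fW, B, hW, hBdvd, hBsol, hBcr, hXB, -⟩ := hE.exists_module hι hmax hsol
  have hBodd : Odd (Nat.card B) := hodd.of_dvd_nat hBdvd
  rw [← he2, he] at hW
  rw [← hC] at hXB
  have hBase : Base B := ih W iW fW B (by
    rw [hW, hV]
    calc e ^ 2 ≤ n ^ 2 := Nat.pow_le_pow_left hen 2
      _ < 4 ^ n := by
        have h1 : n < 2 ^ n := Nat.lt_two_pow_self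
        calc n ^ 2 < (2 ^ n) ^ 2 := Nat.pow_lt_pow_left h1 (by norm_num)
          _ = 4 ^ n := by rw [← pow_mul, mul_comm, pow_mul]; norm_num
      _ ≤ q ^ n := Nat.pow_le_pow_left hq4 n) hBodd hBsol hBcr
  set X := Nat.card B with hX
  have hI : Z.relIndex C ≤ e ^ 2 * X := by
    rw [← Subgroup.relIndex_mul_relIndex Z E C hE.le hEC, ← he2, he]
    exact Nat.mul_le_mul_left _ hXB
  -- the order of `A`
  have hD : Nat.card A ≤ (q - 1) ^ 2 * Z.relIndex C := by
    have h1 : C.relIndex A ≤ q - 1 := by
      rw [← hKu, Subgroup.relIndex, Subgroup.index_eq_card]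
      let τ : A → Kˣ := fun a => Units.mk0
        ⟨_, hK.norm a a.2 _ g₀.2⟩ (fun h0 => g.ne_zero (Subtype.ext (conj_injective
          (a := (a : AutGp V)) (by
            refine (congrArg Subtype.val h0).trans ?_
            show (0 : AddMonoid.End V) = _ * (0 : AddMonoid.End V) * _
            rw [mul_zero, zero_mul]))))
      refine Nat.card_le_card_of_injective (fun x : A ⧸ C.subgroupOf A => τ x.out) fun x y hxy => ?_
      have h2 := congrArg (fun u : Kˣ => ((u : K) : AddMonoid.End V)) hxy
      have h3 : ((x.out⁻¹ * y.out : A) : AutGp V) ∈ C := by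
        refine hmemC _ (x.out⁻¹ * y.out).2 fun v => ?_
        set a := ((x.out : A) : AutGp V)
        set b := ((y.out : A) : AutGp V)
        show ((a⁻¹ * b : AutGp V) : AddMonoid.End V) ((g₀ : AddMonoid.End V) v) =
          (g₀ : AddMonoid.End V) (((a⁻¹ * b : AutGp V) : AddMonoid.End V) v)
        rw [mul_apply', mul_apply', ← conj_apply (a := b)]
        show (a⁻¹ : AutGp V).val (_ : V) = _
        rw [show (b : AddMonoid.End V) * g₀ * ((b⁻¹ : AutGp V) : AddMonoid.End V) =
          (a : AddMonoid.End V) * g₀ * ((a⁻¹ : AutGp V) : AddMonoid.End V) from h2.symm]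
        exact inv_apply' a _
      rw [← x.out_eq, ← y.out_eq]
      exact QuotientGroup.eq.2 h3
    have h2 : Nat.card Z ≤ q - 1 := hKu ▸ Nat.card_le_card_of_injective ι hι
    calc Nat.card A = Nat.card C * C.relIndex A := (card_mul_relIndex' inf_le_left).symm
      _ = Nat.card Z * Z.relIndex C * C.relIndex A := by
        rw [card_mul_relIndex' (hE.le.trans hEC)]
      _ ≤ (q - 1) * Z.relIndex C * (q - 1) := Nat.mul_le_mul (Nat.mul_le_mul_right _ h2) h1
      _ = (q - 1) ^ 2 * Z.relIndex C := by ring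
  have hdata : CountData A C E Z g₀ :=
    { odd := hodd
      hC := inf_le_left
      hE := hEC
      hZ := hE.le
      scalar := fun z hz => ⟨_, fun v => hscalar ⟨z, hz⟩ v⟩
      linear := hlin
      semi := hsemi
      mem := hmemC
      inE := fun a ha haZ => by
        by_contra hno
        push Not at hno
        refine haZ (hE.rad ⟨ha, Subgroup.mem_centralizer_iff.2 fun u hu => ?_⟩)
        exact (commutatorElement_eq_one_iff_mul_comm.1 (hno u hu (hE.comm a ha u hu))).symm
      offE := fun a ha haE => by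
        by_contra hno
        push Not at hno
        refine haE (hE.mem_of_commutator_mem hι ha fun u hu => hno u hu ?_)
        rw [commutatorElement_def]
        exact mul_mem (hE.normE a ha.1 u hu) (inv_mem hu) }
  refine hdata.base rfl ?_
  rw [← hn]
  rcases eq_or_lt_of_le he3 with h3 | h3
  · refine Or.inl ?_
    have hB1 : X = 1 := natCard_le_nine hBcr hBodd (by rw [hW, ← h3]; norm_num)
    have hCE : C ≤ E := Subgroup.relIndex_eq_one.1 (le_antisymm (hB1 ▸ hXB)
      (Nat.one_le_iff_ne_zero.2 Subgroup.index_ne_zero_of_finite))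
    refine ⟨hCE, ?_⟩
    have h1 : Z.relIndex C ≤ 9 := by
      rw [hB1, ← h3] at hI; exact hI.trans (by norm_num)
    calc Nat.card A ≤ (q - 1) ^ 2 * 9 := hD.trans (Nat.mul_le_mul_left _ h1)
      _ < 2 * q ^ 3 := by
        rcases eq_or_lt_of_le hq4 with h4 | h4
        · rw [← h4]; norm_num
        · have : (q - 1) ^ 2 ≤ q ^ 2 := Nat.pow_le_pow_left (Nat.sub_le _ _) 2
          calc (q - 1) ^ 2 * 9 ≤ q ^ 2 * 9 := Nat.mul_le_mul_right _ this
            _ < 2 * q ^ 3 := by nlinarith
      _ ≤ 2 * q ^ n := Nat.mul_le_mul_left _ (Nat.pow_le_pow_right (by omega) (by omega))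
  · refine Or.inr (num_main hqpp (by obtain ⟨k, rfl⟩ := heodd; omega) heodd hen hr hI hD ?_ ?_ ?_ ?_)
    · rw [← hW]; exact natCard_le_of_base hBase
    · exact fun h => natCard_le_twentyFive hBcr hBodd (by rw [hW, h]; norm_num)
    · exact fun h => natCard_le_fortyNine hBcr hBodd (by rw [hW, h]; norm_num)
    · exact fun h => natCard_le_eightyOne hBcr hBodd hBsol (by rw [hW, h]; norm_num)

end CfsgLib.RegOrbit
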